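import Groth.Agent.Lib.Helper6.RootCh.Sums

/-!
# Complementary convex solids: first consequences of (B1)
-/

set_option linter.unusedSectionVars false

namespace Groth.Agent.Lib.Helper6.RCh

open scoped Classical

open RootPairing Module Set RootCh

universe u v w x
variable {ι : Type u} {R : Type v} {M : Type w} {N : Type x}

section CCS

variable [Field R] [LinearOrder R] [IsStrictOrderedRing R]
  [AddCommGroup M] [Module R M] [AddCommGroup N] [Module R N] [Finite ι]
  {P : RootPairing ι R M N} [P.IsRootSystem] [P.IsCrystallographic] [P.IsReduced]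

lemma carrier_subset_span_corners (F : Facet P) : F.carrier ⊆ Submodule.span R F.corners := by
  obtain ⟨b, hb⟩ := cham_nonempty F
  intro ξ hξ
  change ξ ∈ Submodule.span R F.corners
  rw [mem_span_corners_iff hb]
  intro l hl h0
  have := (mem_carrier_iff hb).mp hξ l hl
  rw [h0, sign_eq_zero_iff] at this
  exact this

lemma pair_eq_of_mem_span_corners {d : P.Base → N} (hd : IsCCS d) {F : Facet P} {b b' : P.Base}
    (hb : b ∈ F.cham) (hb' : b' ∈ F.cham) {ξ : M} (hξ : ξ ∈ Submodule.span R F.corners) :
    P.toLinearMap ξ (d b) = P.toLinearMap ξ (d b') := by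
  induction hξ using Submodule.span_induction with
  | mem x hx =>
    exact hd.corner_eq b b' x (corners_subset_baseCorners hb hx) (corners_subset_baseCorners hb' hx)
  | zero => simp
  | add x y _ _ hx hy => rw [map_add, LinearMap.add_apply, LinearMap.add_apply, hx, hy]
  | smul a x _ hx => rw [map_smul, LinearMap.smul_apply, LinearMap.smul_apply, hx]

lemma deg_eq_pair_parabSum (d : P.Base → N) (F : Facet P) (b : P.Base) :
    F.deg d b = P.toLinearMap (parabSum F) (d b) := by
  unfold Facet.deg parabSum
  rw [map_sum, LinearMap.sum_apply]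

lemma numInv_eq_pair_psiSum (d : P.Base → N) (F : Facet P) (m : M) (b : P.Base) :
    F.numInv d m b = P.toLinearMap (psiSum F m) (d b) := by
  unfold Facet.numInv psiSum
  rw [map_sum, LinearMap.sum_apply]

/-- S14249 in library form. -/
theorem deg_eq_deg {d : P.Base → N} (hd : IsCCS d) {F : Facet P} {b b' : P.Base}
    (hb : b ∈ F.cham) (hb' : b' ∈ F.cham) : F.deg d b = F.deg d b' := by
  rw [deg_eq_pair_parabSum, deg_eq_pair_parabSum]
  exact pair_eq_of_mem_span_corners hd hb hb'
    (carrier_subset_span_corners F (parabSum_mem_carrier F))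

/-- S14250 in library form. -/
theorem numInv_eq_numInv {d : P.Base → N} (hd : IsCCS d) {F : Facet P} {m : M}
    (hm : m ∈ F.corners) {b b' : P.Base}
    (hb : b ∈ F.cham) (hb' : b' ∈ F.cham) : F.numInv d m b = F.numInv d m b' := by
  rw [numInv_eq_pair_psiSum, numInv_eq_pair_psiSum]
  exact pair_eq_of_mem_span_corners hd hb hb' (psiSum_mem_span_corners F hm)

end CCS

end Groth.Agent.Lib.Helper6.RCh
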