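import Groth.Agent.Lib.Helper6.RootCh.Polar

/-!
# Closed chambers, positivity of coefficients, sign vectors relative to a base
-/

set_option linter.unusedSectionVars false

namespace Groth.Agent.Lib.Helper6.RCh

open scoped Classical

open RootPairing Module Set RootCh

universe u v w x
variable {ι : Type u} {R : Type v} {M : Type w} {N : Type x}

section Chamber

variable [Field R] [LinearOrder R] [IsStrictOrderedRing R]
  [AddCommGroup M] [Module R M] [AddCommGroup N] [Module R N] [Finite ι]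
  {P : RootPairing ι R M N} [P.IsRootSystem] [P.IsCrystallographic] [P.IsReduced]

/-- index of the negative root -/
abbrev ng (P : RootPairing ι R M N) (i : ι) : ι := P.reflectionPerm i i

lemma root_ng (i : ι) : P.root (ng P i) = - P.root i := by simp [ng]

lemma coroot_ng (i : ι) : P.coroot (ng P i) = - P.coroot i := by simp [ng]

lemma ng_ng (i : ι) : ng P (ng P i) = i := by
  apply P.root.injective; rw [root_ng, root_ng, neg_neg]

lemma isPos_ng_iff (b : P.Base) (i : ι) : b.IsPos (ng P i) ↔ ¬ b.IsPos i :=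
  Base.IsPos.neg_iff_not b i

/-- The coefficients of a positive root along the simple roots are non-negative. -/
lemma root_coeff_nonneg {b : P.Base} {i : ι} (hi : b.IsPos i) (j : ι) :
    0 ≤ P.toLinearMap (P.root i) (fcw b j) := by
  classical
  by_cases hj : j ∈ b.support
  swap
  · rw [fcw_of_notMem hj, map_zero]
  obtain ⟨f, -, hf | hf⟩ := b.exists_root_eq_sum_nat_or_neg i
  · rw [hf, map_sum, LinearMap.sum_apply, Finset.sum_eq_single j]
    · simp [pair_root_fcw_self hj]
    · intro l hl hlj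
      simp [pair_root_fcw_ne hj hl (Ne.symm hlj)]
    · intro h; exact (h hj).elim
  · exfalso
    have h1 : P.root i = ∑ l ∈ b.support, (fun l => -(f l : ℤ)) l • P.root l := by
      rw [hf, ← Finset.sum_neg_distrib]
      refine Finset.sum_congr rfl fun l _ => ?_
      simp
    have h2 := Base.height_eq_sum h1
    rw [Base.isPos_iff, h2] at hi
    have : ∑ l ∈ b.support, -(f l : ℤ) ≤ 0 := Finset.sum_nonpos fun l _ => by simp
    omega

/-- The coefficients of a positive coroot along the simple coroots are non-negative. -/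
lemma coroot_coeff_nonneg {b : P.Base} {i : ι} (hi : b.IsPos i) (j : ι) :
    0 ≤ P.toLinearMap (fw b j) (P.coroot i) := by
  by_cases hj : j ∈ b.support
  swap
  · rw [fw_of_notMem hj, map_zero, LinearMap.zero_apply]
  have h := len_mul_pair_fw_coroot hj i
  have h1 := root_coeff_nonneg hi j
  have h2 := len_pos P i
  have h3 := len_pos P j
  by_contra hn
  push Not at hn
  have : len P i * P.toLinearMap (fw b j) (P.coroot i) < 0 := mul_neg_of_pos_of_neg h2 hn
  rw [h] at this
  exact absurd (mul_nonneg h3.le h1) (not_le.mpr this)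

lemma coroot_coeff_eq_zero_iff {b : P.Base} {j : ι} (hj : j ∈ b.support) (i : ι) :
    P.toLinearMap (fw b j) (P.coroot i) = 0 ↔ P.toLinearMap (P.root i) (fcw b j) = 0 := by
  have h := len_mul_pair_fw_coroot hj i
  have h2 := (len_pos P i).ne'
  have h3 := (len_pos P j).ne'
  constructor
  · intro h0
    rw [h0, mul_zero] at h
    exact (mul_eq_zero.mp h.symm).resolve_left h3
  · intro h0
    rw [h0, mul_zero] at h
    exact (mul_eq_zero.mp h).resolve_left h2

lemma pair_coroot_eq_sum (b : P.Base) (ξ : M) (i : ι) :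
    P.toLinearMap ξ (P.coroot i) =
      ∑ j ∈ b.support, P.toLinearMap (fw b j) (P.coroot i) * P.toLinearMap ξ (P.coroot j) := by
  conv_lhs => rw [eq_sum_coroot b (P.coroot i)]
  simp [map_sum, map_smul]

lemma pair_root_eq_sum (b : P.Base) (x : N) (i : ι) :
    P.toLinearMap (P.root i) x =
      ∑ j ∈ b.support, P.toLinearMap (P.root i) (fcw b j) * P.toLinearMap (P.root j) x := by
  conv_lhs => rw [eq_sum_root b (P.root i)]
  simp [map_sum, map_smul, LinearMap.sum_apply]

lemma mem_closedChamber_iff {b : P.Base} {ξ : M} :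
    ξ ∈ closedChamber b ↔ ∀ j ∈ b.support, 0 ≤ P.toLinearMap ξ (P.coroot j) := Iff.rfl

lemma pair_nonneg_of_mem_closedChamber {b : P.Base} {ξ : M} (hξ : ξ ∈ closedChamber b) {i : ι}
    (hi : b.IsPos i) : 0 ≤ P.toLinearMap ξ (P.coroot i) := by
  rw [pair_coroot_eq_sum b]
  exact Finset.sum_nonneg fun j hj => mul_nonneg (coroot_coeff_nonneg hi j) (mem_closedChamber_iff.mp hξ j hj)

lemma pair_eq_zero_iff_of_mem_closedChamber {b : P.Base} {ξ : M} (hξ : ξ ∈ closedChamber b)
    {i : ι} (hi : b.IsPos i) :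
    P.toLinearMap ξ (P.coroot i) = 0 ↔
      ∀ j ∈ b.support, P.toLinearMap (P.root i) (fcw b j) ≠ 0 → P.toLinearMap ξ (P.coroot j) = 0 := by
  rw [pair_coroot_eq_sum b, Finset.sum_eq_zero_iff_of_nonneg
    (fun j hj => mul_nonneg (coroot_coeff_nonneg hi j) (mem_closedChamber_iff.mp hξ j hj))]
  refine forall₂_congr fun j hj => ?_
  rw [mul_eq_zero, coroot_coeff_eq_zero_iff hj]
  tauto

/-- The standard sign vector attached to a base `b` and a set `Z` of simple indices (the simple
coroots vanishing on the facet). -/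
noncomputable def stdSgn (b : P.Base) (Z : Set ι) (i : ι) : SignType :=
  if ∀ j ∈ b.support, P.toLinearMap (P.root i) (fcw b j) ≠ 0 → j ∈ Z then 0
  else if b.IsPos i then 1 else -1

lemma sgnVec_eq_stdSgn {b : P.Base} {ξ : M} (hξ : ξ ∈ closedChamber b) :
    sgnVec P ξ = stdSgn b {j | P.toLinearMap ξ (P.coroot j) = 0} := by
  classical
  funext i
  unfold stdSgn sgnVec
  change SignType.sign (P.toLinearMap ξ (P.coroot i)) = _
  by_cases hi : b.IsPos i
  · have h0 := pair_eq_zero_iff_of_mem_closedChamber hξ hi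
    have h1 := pair_nonneg_of_mem_closedChamber hξ hi
    split_ifs with h
    · rw [sign_eq_zero_iff]; exact h0.mpr h
    · rw [sign_eq_one_iff]
      exact lt_of_le_of_ne h1 (fun h' => h (h0.mp h'.symm))
  · have hi' : b.IsPos (ng P i) := (isPos_ng_iff b i).mpr hi
    have h0 := pair_eq_zero_iff_of_mem_closedChamber hξ hi'
    have h1 := pair_nonneg_of_mem_closedChamber hξ hi'
    rw [coroot_ng, map_neg] at h0 h1
    simp only [root_ng, map_neg, LinearMap.neg_apply, ne_eq, neg_eq_zero] at h0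
    split_ifs with h
    · rw [sign_eq_zero_iff]; exact h0.mpr h
    · rw [sign_eq_neg_one_iff]
      have h2 : P.toLinearMap ξ (P.coroot i) ≤ 0 := by linarith
      exact lt_of_le_of_ne h2 (fun h' => h (h0.mp h'))

lemma stdSgn_eq_zero_iff {b : P.Base} {Z : Set ι} {i : ι} :
    stdSgn b Z i = 0 ↔ ∀ j ∈ b.support, P.toLinearMap (P.root i) (fcw b j) ≠ 0 → j ∈ Z := by
  classical
  unfold stdSgn
  split_ifs with h1 h2
  · simp only [true_iff]; exact h1
  · simp only [one_ne_zero, false_iff]; exact h1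
  · simp only [neg_eq_zero, one_ne_zero, false_iff]; exact h1

lemma stdSgn_of_not {b : P.Base} {Z : Set ι} {i : ι}
    (h : ¬ ∀ j ∈ b.support, P.toLinearMap (P.root i) (fcw b j) ≠ 0 → j ∈ Z) :
    stdSgn b Z i = if b.IsPos i then 1 else -1 := by
  classical
  unfold stdSgn
  rw [if_neg h]

lemma stdSgn_congr {b : P.Base} {Z Z' : Set ι} (h : ∀ j ∈ b.support, j ∈ Z ↔ j ∈ Z') :
    stdSgn b Z = stdSgn b Z' := by
  funext i
  have : (∀ j ∈ b.support, P.toLinearMap (P.root i) (fcw b j) ≠ 0 → j ∈ Z) ↔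
      (∀ j ∈ b.support, P.toLinearMap (P.root i) (fcw b j) ≠ 0 → j ∈ Z') :=
    forall₂_congr fun j hj => by rw [h j hj]
  by_cases h1 : ∀ j ∈ b.support, P.toLinearMap (P.root i) (fcw b j) ≠ 0 → j ∈ Z
  · rw [stdSgn_eq_zero_iff.mpr h1, stdSgn_eq_zero_iff.mpr (this.mp h1)]
  · rw [stdSgn_of_not h1, stdSgn_of_not (fun h' => h1 (this.mpr h'))]

lemma stdSgn_simple {b : P.Base} {Z : Set ι} {j : ι} (hj : j ∈ b.support) :
    stdSgn b Z j = if j ∈ Z then 0 else 1 := by
  classical
  unfold stdSgn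
  have h1 : (∀ l ∈ b.support, P.toLinearMap (P.root j) (fcw b l) ≠ 0 → l ∈ Z) ↔ j ∈ Z := by
    constructor
    · intro h
      apply h j hj
      rw [pair_root_fcw_self hj]; exact one_ne_zero
    · intro h l hl hne
      by_cases hlj : l = j
      · rw [hlj]; exact h
      · exact (hne (pair_root_fcw_ne hl hj hlj)).elim
  by_cases hz : j ∈ Z
  · rw [if_pos hz, if_pos (h1.mpr hz)]
  · rw [if_neg hz, if_neg (fun h => hz (h1.mp h)), if_pos (Base.isPos_of_mem_support hj)]

/-- `stdSgn b Z₂` is in the closure of `stdSgn b Z₁` iff `Z₂ ⊆ Z₁` (inside the support). -/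
lemma stdSgn_closure_iff {b : P.Base} {Z₁ Z₂ : Set ι} :
    (∀ i, stdSgn b Z₁ i = 0 ∨ stdSgn b Z₁ i = stdSgn b Z₂ i) ↔
      ∀ j ∈ b.support, j ∈ Z₂ → j ∈ Z₁ := by
  classical
  constructor
  · intro h j hj hj2
    have := h j
    rw [stdSgn_simple hj, stdSgn_simple hj, if_pos hj2] at this
    by_contra hj1
    rw [if_neg hj1] at this
    simp at this
  · intro h i
    by_cases h1 : ∀ j ∈ b.support, P.toLinearMap (P.root i) (fcw b j) ≠ 0 → j ∈ Z₁
    · left; exact stdSgn_eq_zero_iff.mpr h1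
    · right
      have h2 : ¬ ∀ j ∈ b.support, P.toLinearMap (P.root i) (fcw b j) ≠ 0 → j ∈ Z₂ := by
        intro h2
        exact h1 fun j hj hne => h j hj (h2 j hj hne)
      rw [stdSgn_of_not h1, stdSgn_of_not h2]

/-- Descent: there is a base none of whose simple roots satisfies `L`, provided `L i` and
`L (-i)` are mutually exclusive. -/
lemma exists_base_forall_not (L : ι → Prop) (hL : ∀ i, L i → ¬ L (ng P i)) :
    ∃ b : P.Base, ∀ k ∈ b.support, ¬ L k := by
  obtain ⟨b₀⟩ := P.nonempty_base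
  suffices ∀ n (b : P.Base), {i | b.IsPos i ∧ L i}.ncard = n →
      ∃ b : P.Base, ∀ k ∈ b.support, ¬ L k from this _ b₀ rfl
  intro n
  induction n using Nat.strong_induction_on with
  | _ n ih =>
    intro b hn
    by_cases h : ∀ k ∈ b.support, ¬ L k
    · exact ⟨b, h⟩
    · push Not at h
      obtain ⟨k, hk, hLk⟩ := h
      refine ih _ ?_ (reflect b k) rfl
      rw [← hn]
      apply Set.ncard_lt_ncard _ (Set.toFinite _)
      constructor
      · rintro i ⟨h1, h2⟩
        rw [isPos_reflect, isPos_reflectionPerm_iff hk] at h1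
        rcases h1 with ⟨h1, -⟩ | rfl
        · exact ⟨h1, h2⟩
        · exact (hL k hLk h2).elim
      · intro hsub
        have : k ∈ {i | (reflect b k).IsPos i ∧ L i} :=
          hsub ⟨Base.isPos_of_mem_support hk, hLk⟩
        have h1 := this.1
        rw [isPos_reflect] at h1
        exact (isPos_ng_iff b k).mp h1 (Base.isPos_of_mem_support hk)

lemma exists_mem_closedChamber_lex (ξ μ : M) :
    ∃ b : P.Base, ξ ∈ closedChamber b ∧
      ∀ j ∈ b.support, P.toLinearMap ξ (P.coroot j) = 0 → 0 ≤ P.toLinearMap μ (P.coroot j) := by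
  obtain ⟨b, hb⟩ := exists_base_forall_not (P := P)
    (fun i => P.toLinearMap ξ (P.coroot i) < 0 ∨
      (P.toLinearMap ξ (P.coroot i) = 0 ∧ P.toLinearMap μ (P.coroot i) < 0)) (by
    intro i hi
    rw [coroot_ng, map_neg, map_neg]
    rcases hi with h | ⟨h1, h2⟩
    · rintro (h' | ⟨h1', -⟩) <;> linarith
    · rintro (h' | ⟨-, h2'⟩) <;> linarith)
  refine ⟨b, fun j hj => ?_, fun j hj h0 => ?_⟩
  · have := hb j hj
    push Not at this
    exact this.1
  · have := hb j hj
    push Not at this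
    exact this.2 h0

lemma exists_mem_closedChamber (ξ : M) : ∃ b : P.Base, ξ ∈ closedChamber b := by
  obtain ⟨b, hb, -⟩ := exists_mem_closedChamber_lex (P := P) ξ 0
  exact ⟨b, hb⟩

lemma mem_cham_iff {F : Facet P} {b : P.Base} :
    b ∈ F.cham ↔ ∀ j ∈ b.support, F.sgn j ≠ -1 := by
  constructor
  · intro hb j hj
    obtain ⟨ξ, hξ⟩ := F.exists_sgnVec_eq
    have h1 : ξ ∈ closedChamber b := hb hξ
    have h2 := mem_closedChamber_iff.mp h1 j hj
    rw [← hξ]
    change SignType.sign (P.toLinearMap ξ (P.coroot j)) ≠ -1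
    rw [Ne, sign_eq_neg_one_iff]
    exact not_lt.mpr h2
  · intro h ξ hξ
    rw [mem_closedChamber_iff]
    intro j hj
    have := h j hj
    rw [← (show sgnVec P ξ = F.sgn from hξ)] at this
    change SignType.sign (P.toLinearMap ξ (P.coroot j)) ≠ -1 at this
    rw [Ne, sign_eq_neg_one_iff] at this
    exact not_lt.mp this

lemma cham_nonempty (F : Facet P) : F.cham.Nonempty := by
  obtain ⟨ξ, hξ⟩ := F.exists_sgnVec_eq
  obtain ⟨b, hb⟩ := exists_mem_closedChamber (P := P) ξ
  refine ⟨b, mem_cham_iff.mpr fun j hj => ?_⟩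
  rw [← hξ]
  change SignType.sign (P.toLinearMap ξ (P.coroot j)) ≠ -1
  rw [Ne, sign_eq_neg_one_iff]
  exact not_lt.mpr (mem_closedChamber_iff.mp hb j hj)

lemma sgn_eq_stdSgn {F : Facet P} {b : P.Base} (hb : b ∈ F.cham) :
    F.sgn = stdSgn b {j | F.sgn j = 0} := by
  obtain ⟨ξ, hξ⟩ := F.exists_sgnVec_eq
  have h1 : ξ ∈ closedChamber b := hb hξ
  have h2 : ∀ j, F.sgn j = 0 ↔ P.toLinearMap ξ (P.coroot j) = 0 := by
    intro j
    rw [← hξ]
    change SignType.sign (P.toLinearMap ξ (P.coroot j)) = 0 ↔ _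
    rw [sign_eq_zero_iff]
  have h3 : stdSgn b {j | F.sgn j = 0} = stdSgn b {j | P.toLinearMap ξ (P.coroot j) = 0} :=
    stdSgn_congr (fun j _ => h2 j)
  rw [h3, ← sgnVec_eq_stdSgn h1]
  exact hξ.symm

lemma closure_subset_closedChamber {F : Facet P} {b : P.Base} (hb : b ∈ F.cham) :
    F.closure ⊆ closedChamber b := by
  intro ξ hξ
  rw [mem_closedChamber_iff]
  intro j hj
  have h1 := mem_cham_iff.mp hb j hj
  have h2 : sgnVec P ξ j ≠ -1 := by
    rcases hξ j with h | h
    · rw [h]; decide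
    · rw [h]; exact h1
  change SignType.sign (P.toLinearMap ξ (P.coroot j)) ≠ -1 at h2
  rw [Ne, sign_eq_neg_one_iff] at h2
  exact not_lt.mp h2

end Chamber

end Groth.Agent.Lib.Helper6.RCh
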