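import Groth.Agent.Lib.Helper6.RootCh.Chamber

/-!
# Corners of chambers and facets
-/

set_option linter.unusedSectionVars false

namespace Groth.Agent.Lib.Helper6.RCh

open scoped Classical

open RootPairing Module Set RootCh

universe u v w x
variable {ι : Type u} {R : Type v} {M : Type w} {N : Type x}

section Corners

variable [Field R] [LinearOrder R] [IsStrictOrderedRing R]
  [AddCommGroup M] [Module R M] [AddCommGroup N] [Module R N] [Finite ι]
  {P : RootPairing ι R M N} [P.IsRootSystem] [P.IsCrystallographic] [P.IsReduced]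

lemma fw_mem_closedChamber {b : P.Base} {j : ι} (hj : j ∈ b.support) :
    fw b j ∈ closedChamber b := by
  rw [mem_closedChamber_iff]
  intro l hl
  rw [pair_fw_coroot hj hl]
  split_ifs <;> simp

lemma fw_injOn (b : P.Base) {i j : ι} (hi : i ∈ b.support) (hj : j ∈ b.support)
    (h : fw b i = fw b j) : i = j := by
  by_contra hne
  have h1 := pair_fw_coroot_self hi
  rw [h, pair_fw_coroot_ne hj hi (Ne.symm hne)] at h1
  exact zero_ne_one h1

lemma mem_fundWeights_iff {m : M} :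
    m ∈ fundWeights P ↔ ∃ (b : P.Base), ∃ i ∈ b.support, fw b i = m := by
  constructor
  · rintro ⟨b, ⟨i, hi⟩, rfl⟩
    exact ⟨b, i, hi, fw_of_mem hi⟩
  · rintro ⟨b, i, hi, rfl⟩
    exact ⟨b, ⟨i, hi⟩, (fw_of_mem hi).symm⟩

lemma corr_iff {m : M} {y : N} :
    Corr P m y ↔ ∃ (b : P.Base), ∃ i ∈ b.support, fw b i = m ∧ fcw b i = y := by
  constructor
  · rintro ⟨b, ⟨i, hi⟩, rfl, rfl⟩
    exact ⟨b, i, hi, fw_of_mem hi, fcw_of_mem hi⟩
  · rintro ⟨b, i, hi, rfl, rfl⟩
    exact ⟨b, ⟨i, hi⟩, (fw_of_mem hi).symm, (fcw_of_mem hi).symm⟩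

/-- Gallery lemma: a fundamental weight of `b'` lying in the closed chamber of `b` is a
fundamental weight of `b`, with the same fundamental coweight. -/
theorem exists_fw_eq (b : P.Base) : ∀ (b' : P.Base), ∀ i' ∈ b'.support,
    fw b' i' ∈ closedChamber b →
    ∃ i ∈ b.support, fw b i = fw b' i' ∧ fcw b i = fcw b' i' := by
  refine base_induction b (fun i' hi' _ => ⟨i', hi', rfl, rfl⟩) ?_
  intro b' k hk hkneg ih i' hi' hmem
  have hneg : b.IsPos (ng P k) := (isPos_ng_iff b k).mpr hkneg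
  have h1 := pair_nonneg_of_mem_closedChamber hmem hneg
  rw [coroot_ng, map_neg, pair_fw_coroot hi' hk] at h1
  have hne : i' ≠ k := by
    intro h
    rw [if_pos h] at h1
    linarith
  have hi'' : P.reflectionPerm k i' ∈ (reflect b' k).support := by
    rw [mem_reflect_support, P.reflectionPerm_self]; exact hi'
  have e1 : fw (reflect b' k) (P.reflectionPerm k i') = fw b' i' := by
    rw [fw_reflect, RootPairing.reflection_apply]
    change _ - P.toLinearMap (fw b' i') (P.coroot k) • _ = _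
    rw [pair_fw_coroot_ne hi' hk hne, zero_smul, sub_zero]
  have e2 : fcw (reflect b' k) (P.reflectionPerm k i') = fcw b' i' := by
    rw [fcw_reflect, RootPairing.coreflection_apply]
    change _ - P.toLinearMap (P.root k) (fcw b' i') • _ = _
    rw [pair_root_fcw_ne hi' hk hne, zero_smul, sub_zero]
  obtain ⟨i, hi, h2, h3⟩ := ih _ hi'' (by rw [e1]; exact hmem)
  exact ⟨i, hi, h2.trans e1, h3.trans e2⟩

/-- S14227 in library form. -/
theorem baseCorners_eq (b : P.Base) : baseCorners b = fw b '' (b.support : Set ι) := by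
  ext m
  constructor
  · rintro ⟨hm, hc⟩
    obtain ⟨b', i', hi', rfl⟩ := mem_fundWeights_iff.mp hm
    obtain ⟨i, hi, h, -⟩ := exists_fw_eq b b' i' hi' hc
    exact ⟨i, hi, h⟩
  · rintro ⟨i, hi, rfl⟩
    exact ⟨mem_fundWeights_iff.mpr ⟨b, i, hi, rfl⟩, fw_mem_closedChamber hi⟩

lemma fcw_eq_of_fw_eq {b b' : P.Base} {i i' : ι} (hi : i ∈ b.support) (hi' : i' ∈ b'.support)
    (h : fw b i = fw b' i') : fcw b i = fcw b' i' := by
  obtain ⟨i₂, hi₂, h2, h3⟩ := exists_fw_eq b b' i' hi' (by rw [← h]; exact fw_mem_closedChamber hi)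
  have : i₂ = i := fw_injOn b hi₂ hi (h2.trans h.symm)
  rw [← h3, this]

lemma corr_fw_iff {b : P.Base} {i : ι} (hi : i ∈ b.support) {y : N} :
    Corr P (fw b i) y ↔ y = fcw b i := by
  rw [corr_iff]
  constructor
  · rintro ⟨b', i', hi', h1, rfl⟩
    exact (fcw_eq_of_fw_eq hi hi' h1.symm).symm
  · rintro rfl
    exact ⟨b, i, hi, rfl, rfl⟩

lemma sgnVec_fw {b : P.Base} {j : ι} (hj : j ∈ b.support) :
    sgnVec P (fw b j) = stdSgn b {l | l ≠ j} := by
  rw [sgnVec_eq_stdSgn (fw_mem_closedChamber hj)]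
  apply stdSgn_congr
  intro l hl
  simp only [Set.mem_setOf_eq]
  rw [pair_fw_coroot hj hl]
  constructor
  · intro h hlj
    rw [if_pos hlj.symm] at h
    exact one_ne_zero h
  · intro h
    rw [if_neg (Ne.symm h)]

lemma sgn_ne_zero_iff_of_mem_cham {F : Facet P} {b : P.Base} (hb : b ∈ F.cham) {j : ι}
    (hj : j ∈ b.support) : F.sgn j ≠ 0 ↔ F.sgn j = 1 := by
  have := mem_cham_iff.mp hb j hj
  revert this
  cases F.sgn j <;> decide

/-- The corners of a facet `F` adjacent to the chamber of `b` are the fundamental weights of `b`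
at the simple indices where `F` is positive. -/
theorem corners_eq {F : Facet P} {b : P.Base} (hb : b ∈ F.cham) :
    F.corners = fw b '' {j | j ∈ b.support ∧ F.sgn j = 1} := by
  ext m
  constructor
  · rintro ⟨hm, hc⟩
    have hcc := closure_subset_closedChamber hb hc
    obtain ⟨b', i', hi', rfl⟩ := mem_fundWeights_iff.mp hm
    obtain ⟨j, hj, h, -⟩ := exists_fw_eq b b' i' hi' hcc
    refine ⟨j, ⟨hj, ?_⟩, h⟩
    rw [← h] at hc
    have hc' : ∀ i, sgnVec P (fw b j) i = 0 ∨ sgnVec P (fw b j) i = F.sgn i := hc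
    rw [sgnVec_fw hj, sgn_eq_stdSgn hb, stdSgn_closure_iff] at hc'
    rw [← sgn_ne_zero_iff_of_mem_cham hb hj]
    intro h0
    exact hc' j hj h0 rfl
  · rintro ⟨j, ⟨hj, hs⟩, rfl⟩
    refine ⟨mem_fundWeights_iff.mpr ⟨b, j, hj, rfl⟩, ?_⟩
    change ∀ i, sgnVec P (fw b j) i = 0 ∨ sgnVec P (fw b j) i = F.sgn i
    rw [sgnVec_fw hj, sgn_eq_stdSgn hb, stdSgn_closure_iff]
    intro l _ hl hlj
    rw [Set.mem_setOf_eq, hlj, hs] at hl
    exact one_ne_zero hl

lemma corners_subset_baseCorners {F : Facet P} {b : P.Base} (hb : b ∈ F.cham) :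
    F.corners ⊆ baseCorners b := by
  rw [corners_eq hb, baseCorners_eq]
  rintro _ ⟨j, ⟨hj, -⟩, rfl⟩
  exact ⟨j, hj, rfl⟩

end Corners

end Groth.Agent.Lib.Helper6.RCh
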