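import Groth.Agent.Lib.Helper6.RootCh.Facets

/-!
# The dual facet: facets of `P` as facets of `P.flip`
-/

set_option linter.unusedSectionVars false

namespace Groth.Agent.Lib.Helper6.RCh

open scoped Classical

open RootPairing Module Set RootCh

universe u v w x
variable {ι : Type u} {R : Type v} {M : Type w} {N : Type x}

section Dual

variable [Field R] [LinearOrder R] [IsStrictOrderedRing R]
  [AddCommGroup M] [Module R M] [AddCommGroup N] [Module R N] [Finite ι]
  {P : RootPairing ι R M N} [P.IsRootSystem] [P.IsCrystallographic] [P.IsReduced]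

lemma sgnVec_flip (x : N) : sgnVec P.flip x = cosgnVec P x := rfl

lemma cosgnVec_pol (ξ : M) : cosgnVec P (pol P ξ) = sgnVec P ξ := by
  funext i
  change SignType.sign (P.toLinearMap (P.root i) (pol P ξ)) =
    SignType.sign (P.toLinearMap ξ (P.coroot i))
  rw [pair_root_pol, sign_mul, sign_pos (len_pos P i), one_mul]

/-- The dual facet, as a facet of the dual root system. -/
noncomputable def flipFacet (F : Facet P) : Facet P.flip :=
  ⟨F.sgn, by
    obtain ⟨ξ, hξ⟩ := F.exists_sgnVec_eq
    exact ⟨pol P ξ, by rw [sgnVec_flip, cosgnVec_pol, hξ]⟩⟩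

@[simp] lemma flipFacet_sgn (F : Facet P) : (flipFacet F).sgn = F.sgn := rfl

lemma flipFacet_carrier (F : Facet P) : (flipFacet F).carrier = F.dualCarrier := rfl

lemma flipFacet_closure (F : Facet P) : (flipFacet F).closure = F.dualClosure := rfl

lemma flipFacet_corners (F : Facet P) : (flipFacet F).corners = F.dualCorners := rfl

lemma flip_mem_cham_flipFacet {F : Facet P} {b : P.Base} (hb : b ∈ F.cham) :
    b.flip ∈ (flipFacet F).cham := by
  have h := (mem_cham_iff (F := F) (b := b)).mp hb
  rw [mem_cham_iff]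
  exact h

lemma dualCorners_eq {F : Facet P} {b : P.Base} (hb : b ∈ F.cham) :
    F.dualCorners = fcw b '' {j | j ∈ b.support ∧ F.sgn j = 1} := by
  rw [← flipFacet_corners, corners_eq (flip_mem_cham_flipFacet hb)]
  rfl

/-- A vector of `N` lies in the dual facet iff its pairings with the simple roots of `b` have
the signs prescribed by `F`. -/
lemma mem_dualCarrier_iff {F : Facet P} {b : P.Base} (hb : b ∈ F.cham) {x : N} :
    x ∈ F.dualCarrier ↔
      ∀ j ∈ b.support, SignType.sign (P.toLinearMap (P.root j) x) = F.sgn j := by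
  rw [← flipFacet_carrier, mem_carrier_iff (flip_mem_cham_flipFacet hb)]
  rfl

lemma sgn_ng (F : Facet P) (i : ι) : F.sgn (ng P i) = - F.sgn i := by
  obtain ⟨ξ, hξ⟩ := F.exists_sgnVec_eq
  rw [← hξ]
  change SignType.sign (P.toLinearMap ξ (P.coroot (ng P i))) =
    - SignType.sign (P.toLinearMap ξ (P.coroot i))
  rw [coroot_ng, map_neg, Left.sign_neg]

end Dual

end Groth.Agent.Lib.Helper6.RCh
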