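import Groth.Agent.Lib.Helper6.RootCh.Corners

/-!
# Facets adjacent to a chamber: standard facets, carrier description
-/

set_option linter.unusedSectionVars false

namespace Groth.Agent.Lib.Helper6.RCh

open scoped Classical

open RootPairing Module Set RootCh

universe u v w x
variable {ι : Type u} {R : Type v} {M : Type w} {N : Type x}

section Facets

variable [Field R] [LinearOrder R] [IsStrictOrderedRing R]
  [AddCommGroup M] [Module R M] [AddCommGroup N] [Module R N] [Finite ι]
  {P : RootPairing ι R M N} [P.IsRootSystem] [P.IsCrystallographic] [P.IsReduced]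

/-- The vector with prescribed pairings `a j` against the simple coroots of `b`. -/
noncomputable def mkVec (b : P.Base) (a : ι → R) : M := ∑ j ∈ b.support, a j • fw b j

lemma pair_mkVec {b : P.Base} (a : ι → R) {l : ι} (hl : l ∈ b.support) :
    P.toLinearMap (mkVec b a) (P.coroot l) = a l := by
  unfold mkVec
  rw [map_sum, LinearMap.sum_apply, Finset.sum_eq_single l]
  · simp [pair_fw_coroot_self hl]
  · intro j hj hjl
    simp [pair_fw_coroot_ne hj hl hjl]
  · intro h; exact (h hl).elim

lemma mkVec_pair (b : P.Base) (ξ : M) : mkVec b (fun j => P.toLinearMap ξ (P.coroot j)) = ξ :=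
  (eq_sum_fw b ξ).symm

lemma linearIndepOn_fw (b : P.Base) : LinearIndepOn R (fw b) (b.support : Set ι) := by
  rw [linearIndepOn_finset_iff]
  intro f hf l hl
  have := pair_mkVec (b := b) f hl
  unfold mkVec at this
  rw [hf, map_zero, LinearMap.zero_apply] at this
  exact this.symm

lemma sgnVec_simple (ξ : M) (j : ι) :
    sgnVec P ξ j = SignType.sign (P.toLinearMap ξ (P.coroot j)) := rfl

/-- Two facets adjacent to the chamber of `b` with the same signs on the simple coroots of `b`
are equal. -/
lemma facet_ext_of_cham {F G : Facet P} {b : P.Base} (hF : b ∈ F.cham) (hG : b ∈ G.cham)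
    (h : ∀ j ∈ b.support, F.sgn j = G.sgn j) : F = G := by
  apply Facet.ext
  rw [sgn_eq_stdSgn hF, sgn_eq_stdSgn hG]
  apply stdSgn_congr
  intro j hj
  simp only [Set.mem_setOf_eq, h j hj]

lemma ofVec_sgn (ξ : M) : (Facet.ofVec P ξ).sgn = sgnVec P ξ := rfl

lemma mem_cham_ofVec {b : P.Base} {ξ : M} (h : ξ ∈ closedChamber b) :
    b ∈ (Facet.ofVec P ξ).cham := by
  rw [mem_cham_iff]
  intro j hj
  rw [ofVec_sgn, sgnVec_simple, Ne, sign_eq_neg_one_iff]
  exact not_lt.mpr (mem_closedChamber_iff.mp h j hj)

/-- A vector lies in the facet `F` adjacent to `b` iff its pairings with the simple coroots of `b`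
have the signs prescribed by `F`. -/
lemma mem_carrier_iff {F : Facet P} {b : P.Base} (hb : b ∈ F.cham) {ξ : M} :
    ξ ∈ F.carrier ↔ ∀ j ∈ b.support, SignType.sign (P.toLinearMap ξ (P.coroot j)) = F.sgn j := by
  constructor
  · intro h j _
    rw [← (show sgnVec P ξ = F.sgn from h)]
    rfl
  · intro h
    have hc : ξ ∈ closedChamber b := by
      rw [mem_closedChamber_iff]
      intro j hj
      have h1 := mem_cham_iff.mp hb j hj
      rw [← h j hj, Ne, sign_eq_neg_one_iff] at h1
      exact not_lt.mp h1
    have : Facet.ofVec P ξ = F := facet_ext_of_cham (mem_cham_ofVec hc) hb (fun j hj => h j hj)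
    change sgnVec P ξ = F.sgn
    rw [← this]; rfl

/-- The standard facet attached to `b` and a set `T` of simple indices (the indices at which the
facet is positive). -/
noncomputable def stdFacet (b : P.Base) (T : Set ι) : Facet P :=
  Facet.ofVec P (mkVec b (fun j => if j ∈ T then 1 else 0))

lemma mkVec_mem_closedChamber {b : P.Base} {a : ι → R} (ha : ∀ j ∈ b.support, 0 ≤ a j) :
    mkVec b a ∈ closedChamber b := by
  rw [mem_closedChamber_iff]
  intro j hj
  rw [pair_mkVec a hj]; exact ha j hj

lemma mem_cham_stdFacet (b : P.Base) (T : Set ι) : b ∈ (stdFacet b T).cham := by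
  apply mem_cham_ofVec
  apply mkVec_mem_closedChamber
  intro j _
  split_ifs <;> simp

lemma stdFacet_sgn_simple {b : P.Base} (T : Set ι) {j : ι} (hj : j ∈ b.support) :
    (stdFacet b T).sgn j = if j ∈ T then 1 else 0 := by
  unfold stdFacet
  rw [ofVec_sgn, sgnVec_simple, pair_mkVec _ hj]
  split_ifs <;> simp

lemma eq_stdFacet {F : Facet P} {b : P.Base} (hb : b ∈ F.cham) :
    F = stdFacet b {j | F.sgn j = 1} := by
  apply facet_ext_of_cham hb (mem_cham_stdFacet b _)
  intro j hj
  rw [stdFacet_sgn_simple _ hj]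
  by_cases h : F.sgn j = 1
  · rw [if_pos (show j ∈ {j | F.sgn j = 1} from h), h]
  · rw [if_neg (show j ∉ {j | F.sgn j = 1} from h)]
    have := (sgn_ne_zero_iff_of_mem_cham hb hj).not.mpr h
    simpa using this

lemma corners_stdFacet (b : P.Base) (T : Set ι) :
    (stdFacet b T).corners = fw b '' {j | j ∈ b.support ∧ j ∈ T} := by
  rw [corners_eq (mem_cham_stdFacet b T)]
  congr 1
  ext j
  simp only [Set.mem_setOf_eq]
  constructor
  · rintro ⟨hj, h⟩
    refine ⟨hj, ?_⟩
    rw [stdFacet_sgn_simple _ hj] at h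
    by_contra hn
    rw [if_neg hn] at h
    exact zero_ne_one h
  · rintro ⟨hj, h⟩
    refine ⟨hj, ?_⟩
    rw [stdFacet_sgn_simple _ hj, if_pos h]

end Facets

end Groth.Agent.Lib.Helper6.RCh
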