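import Mathlib

/-!
# Farkas' lemma over a linearly ordered field (after Bartl), and separation from a finite hull
-/

namespace Groth.Agent.Lib.Helper6.RCh

open scoped Classical

universe v
variable {R : Type v} [Field R] [LinearOrder R] [IsStrictOrderedRing R]

/-- Farkas' lemma (Bartl's algebraic proof): if the linear form `γ` is non-positive wherever all
the finitely many forms `α i` are non-positive, then `γ` is a non-negative combination of them. -/
theorem farkas {W : Type*} [AddCommGroup W] [Module R W] {κ : Type*} (s : Finset κ) :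
    ∀ (α : κ → W →ₗ[R] R) (γ : W →ₗ[R] R),
      (∀ w, (∀ i ∈ s, α i w ≤ 0) → γ w ≤ 0) →
      ∃ c : κ → R, (∀ i ∈ s, 0 ≤ c i) ∧ γ = ∑ i ∈ s, c i • α i := by
  induction s using Finset.induction_on with
  | empty =>
    intro α γ h
    refine ⟨fun _ => 0, by simp, ?_⟩
    ext w
    have h1 := h w (by simp)
    have h2 := h (-w) (by simp)
    rw [map_neg] at h2
    simp only [Finset.sum_empty, LinearMap.zero_apply]
    linarith
  | insert a s ha ih =>
    intro α γ h
    by_cases hA : ∀ w, (∀ i ∈ s, α i w ≤ 0) → γ w ≤ 0
    · obtain ⟨c, hc, hγ⟩ := ih α γ hA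
      refine ⟨Function.update c a 0, ?_, ?_⟩
      · intro i hi
        by_cases hia : i = a
        · subst hia; simp
        · rw [Function.update_of_ne hia]
          exact hc i ((Finset.mem_insert.mp hi).resolve_left hia)
      · rw [Finset.sum_insert ha, Function.update_self, zero_smul, zero_add, hγ]
        refine Finset.sum_congr rfl fun i hi => ?_
        rw [Function.update_of_ne (fun h' : i = a => ha (h' ▸ hi))]
    · push Not at hA
      obtain ⟨w₀, hw₀, hγ₀⟩ := hA
      have hα₀ : 0 < α a w₀ := by
        by_contra hn
        push Not at hn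
        have := h w₀ (by
          intro i hi
          rcases Finset.mem_insert.mp hi with rfl | hi
          · exact hn
          · exact hw₀ i hi)
        linarith
      set w₁ : W := (α a w₀)⁻¹ • w₀ with hw₁
      have hαa : α a w₁ = 1 := by
        rw [hw₁, map_smul, smul_eq_mul, inv_mul_cancel₀ hα₀.ne']
      have hαi : ∀ i ∈ s, α i w₁ ≤ 0 := by
        intro i hi
        rw [hw₁, map_smul, smul_eq_mul]
        exact mul_nonpos_of_nonneg_of_nonpos (inv_nonneg.mpr hα₀.le) (hw₀ i hi)
      have hγ₁ : 0 < γ w₁ := by
        rw [hw₁, map_smul, smul_eq_mul]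
        exact mul_pos (inv_pos.mpr hα₀) hγ₀
      set α' : κ → W →ₗ[R] R := fun i => α i - (α i w₁) • α a with hα'
      set γ' : W →ₗ[R] R := γ - (γ w₁) • α a with hγ'
      have h' : ∀ w, (∀ i ∈ s, α' i w ≤ 0) → γ' w ≤ 0 := by
        intro w hw
        have key := h (w - (α a w) • w₁) (by
          intro i hi
          rcases Finset.mem_insert.mp hi with rfl | hi
          · rw [map_sub, map_smul, hαa, smul_eq_mul, mul_one, sub_self]
          · have := hw i hi
            simp only [hα', LinearMap.sub_apply, LinearMap.smul_apply, smul_eq_mul] at this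
            rw [map_sub, map_smul, smul_eq_mul]
            linarith [mul_comm (α a w) (α i w₁)])
        simp only [hγ', LinearMap.sub_apply, LinearMap.smul_apply, smul_eq_mul]
        rw [map_sub, map_smul, smul_eq_mul] at key
        linarith [mul_comm (α a w) (γ w₁)]
      obtain ⟨c, hc, hγc⟩ := ih α' γ' h'
      set ca : R := γ w₁ - ∑ i ∈ s, c i * α i w₁ with hca
      have hca_pos : 0 ≤ ca := by
        have : ∑ i ∈ s, c i * α i w₁ ≤ 0 :=
          Finset.sum_nonpos fun i hi => mul_nonpos_of_nonneg_of_nonpos (hc i hi) (hαi i hi)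
        rw [hca]; linarith
      refine ⟨Function.update c a ca, ?_, ?_⟩
      · intro i hi
        by_cases hia : i = a
        · subst hia; simpa using hca_pos
        · rw [Function.update_of_ne hia]
          exact hc i ((Finset.mem_insert.mp hi).resolve_left hia)
      · rw [Finset.sum_insert ha, Function.update_self]
        have hsum : ∑ i ∈ s, Function.update c a ca i • α i = ∑ i ∈ s, c i • α i :=
          Finset.sum_congr rfl fun i hi => by
            rw [Function.update_of_ne (fun h' : i = a => ha (h' ▸ hi))]
        rw [hsum]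
        have e1 : γ = γ' + (γ w₁) • α a := by rw [hγ']; abel
        have e2 : ∑ i ∈ s, c i • α' i =
            ∑ i ∈ s, c i • α i - (∑ i ∈ s, c i * α i w₁) • α a := by
          simp only [hα', smul_sub, Finset.sum_sub_distrib, Finset.sum_smul, smul_smul]
        rw [e1, hγc, e2, hca]
        module

/-- Strict separation of a point from the convex hull of a finite set by a linear form. -/
theorem exists_dual_lt_of_notMem_convexHull {V : Type*} [AddCommGroup V] [Module R V]
    (S : Finset V) {x : V} (hx : x ∉ convexHull R (S : Set V)) :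
    ∃ f : V →ₗ[R] R, ∀ s ∈ S, f x < f s := by
  by_contra hcon
  push Not at hcon
  apply hx
  -- forms on W = Dual V × R
  let ev : V → (Module.Dual R V × R) →ₗ[R] R := fun v =>
    -((Module.Dual.eval R V v).comp (LinearMap.fst R (Module.Dual R V) R) + LinearMap.snd R _ R)
  have hev : ∀ v (f : Module.Dual R V) (c : R), ev v (f, c) = -(f v + c) := by
    intro v f c; simp [ev]
  have h := farkas (R := R) S ev (ev x) (by
    rintro ⟨f, c⟩ hw
    by_contra hn
    push Not at hn
    rw [hev] at hn
    obtain ⟨s, hs, hfs⟩ := hcon f
    have := hw s hs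
    rw [hev] at this
    linarith)
  obtain ⟨c, hc, hγ⟩ := h
  rw [Finset.mem_convexHull']
  refine ⟨c, hc, ?_, ?_⟩
  · have := congrArg (fun g => g ((0 : Module.Dual R V), (1 : R))) hγ
    simp only [hev, LinearMap.sum_apply, LinearMap.smul_apply, smul_eq_mul, LinearMap.zero_apply,
      zero_add, mul_neg, mul_one, Finset.sum_neg_distrib, neg_inj] at this
    exact this.symm
  · rw [← sub_eq_zero, ← Module.forall_dual_apply_eq_zero_iff R]
    intro f
    have := congrArg (fun g => g (f, (0 : R))) hγ
    simp only [hev, LinearMap.sum_apply, LinearMap.smul_apply, smul_eq_mul, add_zero, mul_neg,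
      Finset.sum_neg_distrib, neg_inj] at this
    rw [map_sub, map_sum, sub_eq_zero]
    simp only [map_smul, smul_eq_mul]
    exact this.symm

/-- A point of the convex hull of a finite set on which a linear form attains its lower bound
lies in the convex hull of the points of the set where the bound is attained. -/
theorem mem_convexHull_face {V : Type*} [AddCommGroup V] [Module R V] (S : Finset V)
    (f : V →ₗ[R] R) (c : R) (hf : ∀ s ∈ S, c ≤ f s) {y : V}
    (hy : y ∈ convexHull R (S : Set V)) (hfy : f y = c) :
    y ∈ convexHull R ((S.filter (fun s => f s = c) : Finset V) : Set V) := by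
  rw [Finset.mem_convexHull'] at hy ⊢
  obtain ⟨w, hw0, hw1, hwy⟩ := hy
  have hsum : ∑ s ∈ S, w s * (f s - c) = 0 := by
    have h1 : f y = ∑ s ∈ S, w s * f s := by
      rw [← hwy, map_sum]
      exact Finset.sum_congr rfl fun s _ => by rw [map_smul, smul_eq_mul]
    have h2 : ∑ s ∈ S, w s * (f s - c) = ∑ s ∈ S, w s * f s - (∑ s ∈ S, w s) * c := by
      rw [Finset.sum_mul, ← Finset.sum_sub_distrib]
      exact Finset.sum_congr rfl fun s _ => by ring
    rw [h2, ← h1, hw1, hfy, one_mul, sub_self]
  have hzero : ∀ s ∈ S, f s ≠ c → w s = 0 := by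
    intro s hs hne
    have := (Finset.sum_eq_zero_iff_of_nonneg
      (fun s hs => mul_nonneg (hw0 s hs) (sub_nonneg.mpr (hf s hs)))).mp hsum s hs
    rcases mul_eq_zero.mp this with h | h
    · exact h
    · exact (hne (sub_eq_zero.mp h)).elim
  refine ⟨w, fun s hs => hw0 s (Finset.mem_filter.mp hs).1, ?_, ?_⟩
  · rw [← hw1]
    apply Finset.sum_subset (Finset.filter_subset _ _)
    intro s hs hns
    apply hzero s hs
    intro h; exact hns (Finset.mem_filter.mpr ⟨hs, h⟩)
  · rw [← hwy]
    apply Finset.sum_subset (Finset.filter_subset _ _)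
    intro s hs hns
    rw [hzero s hs (fun h => hns (Finset.mem_filter.mpr ⟨hs, h⟩)), zero_smul]

end Groth.Agent.Lib.Helper6.RCh
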