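import Groth.Agent.Lib.Helper6.RootCh.Special

/-!
# Special facets and facets of maximal degree
-/

set_option linter.unusedSectionVars false

namespace Groth.Agent.Lib.Helper6.RCh

open scoped Classical

open RootPairing Module Set RootCh

universe u v w x
variable {ι : Type u} {R : Type v} {M : Type w} {N : Type x}

section Maximal

variable [Field R] [LinearOrder R] [IsStrictOrderedRing R]
  [AddCommGroup M] [Module R M] [AddCommGroup N] [Module R N] [Finite ι]
  {P : RootPairing ι R M N} [P.IsRootSystem] [P.IsCrystallographic] [P.IsReduced]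

lemma le_iff_of_mem_cham {F G : Facet P} {b : P.Base} (hF : b ∈ F.cham) (hG : b ∈ G.cham) :
    F ≤ G ↔ ∀ j ∈ b.support, F.sgn j = 0 → G.sgn j = 0 := by
  rw [Facet.le_def]
  conv_lhs => rw [sgn_eq_stdSgn hF, sgn_eq_stdSgn hG]
  rw [stdSgn_closure_iff]
  rfl

lemma sgn_of_le {F G : Facet P} (h : F ≤ G) (i : ι) : G.sgn i = 0 ∨ G.sgn i = F.sgn i := h i

lemma parab_subset_of_le {F G : Facet P} (h : F ≤ G) : F.parab ⊆ G.parab := by
  intro i hi
  change G.sgn i ≠ -1
  rcases h i with h0 | h0
  · rw [h0]; decide
  · rw [h0]; exact hi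

lemma mem_cham_of_le {F G : Facet P} (h : F ≤ G) {b : P.Base} (hb : b ∈ F.cham) :
    b ∈ G.cham := by
  rw [mem_cham_iff] at hb ⊢
  intro j hj
  rcases h j with h0 | h0
  · rw [h0]; decide
  · rw [h0]; exact hb j hj

lemma span_corners_le_of_le {F G : Facet P} (h : F ≤ G) :
    Submodule.span R G.corners ≤ Submodule.span R F.corners := by
  obtain ⟨b, hb⟩ := cham_nonempty F
  have hb' := mem_cham_of_le h hb
  intro ξ hξ
  rw [mem_span_corners_iff hb'] at hξ
  rw [mem_span_corners_iff hb]
  intro l hl h0
  exact hξ l hl ((le_iff_of_mem_cham hb hb').mp h l hl h0)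

lemma parabSum_mem_span_corners (F : Facet P) : parabSum F ∈ Submodule.span R F.corners :=
  carrier_subset_span_corners F (parabSum_mem_carrier F)

lemma pair_parabSum (F : Facet P) (y : N) :
    P.toLinearMap (parabSum F) y =
      ∑ i ∈ (Set.toFinite F.parab).toFinset, P.toLinearMap (P.root i) y := by
  unfold parabSum
  rw [map_sum, LinearMap.sum_apply]

/-- For `F ≤ G`, the difference of the pairings of the two parabolic sums. -/
lemma pair_parabSum_sub_of_le {F G : Facet P} (h : F ≤ G) (y : N) :
    P.toLinearMap (parabSum G) y - P.toLinearMap (parabSum F) y =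
      ∑ i ∈ (Set.toFinite G.parab).toFinset \ (Set.toFinite F.parab).toFinset,
        P.toLinearMap (P.root i) y := by
  rw [pair_parabSum, pair_parabSum, Finset.sum_sdiff_eq_sub]
  intro i hi
  rw [Set.Finite.mem_toFinset] at hi ⊢
  exact parab_subset_of_le h hi

lemma pair_le_of_mem_solid {d : P.Base → N} (hd : IsCCS d) {c : P.Base} {m : M}
    (hm : m ∈ closedChamber c) {y : N} (hy : y ∈ solid d) :
    P.toLinearMap m (d c) ≤ P.toLinearMap m y := by
  have : solid d ⊆ {y | P.toLinearMap m (d c) ≤ P.toLinearMap m y} := by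
    apply convexHull_min
    · rintro _ ⟨b', rfl⟩
      exact pair_le_pair hd c hm b'
    · intro x hx z hz a e ha he hae
      change _ ≤ P.toLinearMap m (a • x + e • z)
      rw [map_add, map_smul, map_smul, smul_eq_mul, smul_eq_mul]
      have h1 : P.toLinearMap m (d c) ≤ P.toLinearMap m x := hx
      have h2 : P.toLinearMap m (d c) ≤ P.toLinearMap m z := hz
      calc P.toLinearMap m (d c) = a * P.toLinearMap m (d c) + e * P.toLinearMap m (d c) := by
            rw [← add_mul, hae, one_mul]
        _ ≤ _ := add_le_add (mul_le_mul_of_nonneg_left h1 ha) (mul_le_mul_of_nonneg_left h2 he)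
  exact this hy

/-- S14248 in library form. -/
theorem isGreatest_of_isSpecial {d : P.Base → N} (hd : IsCCS d) {F : Facet P} {b : P.Base}
    (hb : b ∈ F.cham) (hF : IsSpecial d F) :
    (∀ (G : Facet P) (c : P.Base), c ∈ G.cham → G.deg d c ≤ F.deg d b) ∧
      ∀ (G : Facet P) (c : P.Base), c ∈ G.cham → G.deg d c = F.deg d b → G ≤ F := by
  obtain ⟨y, hy1, hy2⟩ := hF
  have hys : y ∈ solid d := dualSolid_subset_solid d F hy2
  have hyh := dualSolid_subset_iInter_hyper hd F hy2
  have hsign : ∀ i, SignType.sign (P.toLinearMap (P.root i) y) = F.sgn i := fun i => congrFun hy1 i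
  have hFy : F.deg d b = P.toLinearMap (parabSum F) y := by
    rw [deg_eq_pair_parabSum, pair_eq_of_mem_iInter_hyper hd hb hyh (parabSum_mem_span_corners F)]
  -- the basic chain of inequalities
  have key : ∀ (G : Facet P) (c : P.Base), c ∈ G.cham →
      G.deg d c ≤ P.toLinearMap (parabSum G) y ∧
      P.toLinearMap (parabSum G) y - P.toLinearMap (parabSum F) y =
        ∑ i ∈ (Set.toFinite G.parab).toFinset \ (Set.toFinite F.parab).toFinset,
          P.toLinearMap (P.root i) y -
        ∑ i ∈ (Set.toFinite F.parab).toFinset \ (Set.toFinite G.parab).toFinset,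
          P.toLinearMap (P.root i) y := by
    intro G c hc
    refine ⟨?_, ?_⟩
    · rw [deg_eq_pair_parabSum]
      exact pair_le_of_mem_solid hd (parabSum_mem_closedChamber hc) hys
    · rw [pair_parabSum, pair_parabSum, Finset.sum_sdiff_sub_sum_sdiff]
  have hneg : ∀ (G : Facet P), ∀ i ∈ (Set.toFinite G.parab).toFinset \ (Set.toFinite F.parab).toFinset,
      P.toLinearMap (P.root i) y < 0 := by
    intro G i hi
    rw [Finset.mem_sdiff, Set.Finite.mem_toFinset, Set.Finite.mem_toFinset] at hi
    have : F.sgn i = -1 := by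
      have := hi.2
      change ¬ (F.sgn i ≠ -1) at this
      exact not_not.mp this
    rw [← hsign, sign_eq_neg_one_iff] at this
    exact this
  have hpos : ∀ (G : Facet P), ∀ i ∈ (Set.toFinite F.parab).toFinset \ (Set.toFinite G.parab).toFinset,
      0 ≤ P.toLinearMap (P.root i) y := by
    intro G i hi
    rw [Finset.mem_sdiff, Set.Finite.mem_toFinset, Set.Finite.mem_toFinset] at hi
    have h1 : F.sgn i ≠ -1 := hi.1
    rw [← hsign, Ne, sign_eq_neg_one_iff] at h1
    exact not_lt.mp h1
  refine ⟨?_, ?_⟩
  · intro G c hc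
    obtain ⟨h1, h2⟩ := key G c hc
    have h3 := Finset.sum_nonpos (fun i hi => (hneg G i hi).le)
    have h4 := Finset.sum_nonneg (hpos G)
    rw [hFy]
    linarith
  · intro G c hc heq
    obtain ⟨h1, h2⟩ := key G c hc
    have h3 := Finset.sum_nonpos (fun i hi => (hneg G i hi).le)
    have h4 := Finset.sum_nonneg (hpos G)
    rw [hFy] at heq
    have h5 : ∑ i ∈ (Set.toFinite G.parab).toFinset \ (Set.toFinite F.parab).toFinset,
        P.toLinearMap (P.root i) y = 0 := by linarith
    have h6 : ∑ i ∈ (Set.toFinite F.parab).toFinset \ (Set.toFinite G.parab).toFinset,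
        P.toLinearMap (P.root i) y = 0 := by linarith
    have hsub : G.parab ⊆ F.parab := by
      intro i hi
      by_contra hn
      have hmem : i ∈ (Set.toFinite G.parab).toFinset \ (Set.toFinite F.parab).toFinset := by
        rw [Finset.mem_sdiff, Set.Finite.mem_toFinset, Set.Finite.mem_toFinset]
        exact ⟨hi, hn⟩
      have := (Finset.sum_eq_zero_iff_of_nonpos (fun i hi => (hneg G i hi).le)).mp h5 i hmem
      exact absurd this (hneg G i hmem).ne
    have hzero : ∀ i, i ∈ F.parab → i ∉ G.parab → F.sgn i = 0 := by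
      intro i hi hn
      have hmem : i ∈ (Set.toFinite F.parab).toFinset \ (Set.toFinite G.parab).toFinset := by
        rw [Finset.mem_sdiff, Set.Finite.mem_toFinset, Set.Finite.mem_toFinset]
        exact ⟨hi, hn⟩
      have := (Finset.sum_eq_zero_iff_of_nonneg (hpos G)).mp h6 i hmem
      rw [← hsign, sign_eq_zero_iff]
      exact this
    -- conclude G ≤ F
    intro i
    by_cases h0 : F.sgn i = 0
    · left; exact h0
    · right
      by_cases hiF : i ∈ F.parab
      · have hiG : i ∈ G.parab := by
          by_contra hn; exact h0 (hzero i hiF hn)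
        -- F.sgn i = 1
        have hF1 : F.sgn i = 1 := by
          have : F.sgn i ≠ -1 := hiF
          revert this h0
          cases F.sgn i <;> decide
        have hngF : ng P i ∉ F.parab := by
          intro h
          have : F.sgn (ng P i) ≠ -1 := h
          rw [sgn_ng, hF1] at this
          exact this rfl
        have hngG : ng P i ∉ G.parab := fun h => hngF (hsub h)
        have : G.sgn (ng P i) = -1 := by
          have := hngG
          change ¬ (G.sgn (ng P i) ≠ -1) at this
          exact not_not.mp this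
        rw [sgn_ng] at this
        rw [hF1]
        have h7 : G.sgn i = 1 := by
          revert this
          cases G.sgn i <;> decide
        exact h7.symm
      · have hiG : i ∉ G.parab := fun h => hiF (hsub h)
        have h1 : F.sgn i = -1 := by
          have := hiF
          change ¬ (F.sgn i ≠ -1) at this
          exact not_not.mp this
        have h2 : G.sgn i = -1 := by
          have := hiG
          change ¬ (G.sgn i ≠ -1) at this
          exact not_not.mp this
        rw [h1, h2]

lemma pair_eq_sum_fw (b : P.Base) (ξ : M) (x : N) :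
    P.toLinearMap ξ x =
      ∑ j ∈ b.support, P.toLinearMap ξ (P.coroot j) * P.toLinearMap (fw b j) x := by
  conv_lhs => rw [eq_sum_fw b ξ]
  simp only [map_sum, LinearMap.sum_apply, map_smul, LinearMap.smul_apply, smul_eq_mul]

/-- S14247 in library form. -/
theorem isSpecial_of_maximal {d : P.Base → N} (hd : IsCCS d) {F : Facet P} {b : P.Base}
    (hb : b ∈ F.cham)
    (hmax : ∀ (G : Facet P) (c : P.Base), c ∈ G.cham → G.deg d c ≤ F.deg d b)
    (hmaxl : ∀ (G : Facet P) (c : P.Base), c ∈ G.cham → G.deg d c = F.deg d b → F ≤ G → G = F) :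
    IsSpecial d F := by
  obtain ⟨y, hy1, hy2⟩ := yLocus_nonempty hd F
  have hy2' : y ∈ Submodule.span R F.dualCarrier := hy2
  refine ⟨y, ?_, ?_⟩
  · -- `y` lies in the dual facet
    rw [mem_dualCarrier_iff hb]
    intro j₀ hj₀
    by_cases hs : F.sgn j₀ = 1
    swap
    · have h0 := sgn_eq_zero_of_ne_one hb hj₀ hs
      rw [h0, sign_eq_zero_iff]
      exact (mem_span_dualCarrier_iff hb).mp hy2' j₀ hj₀ h0
    rw [hs, sign_eq_one_iff]
    by_contra hc
    push Not at hc
    set G := stdFacet b ({j | F.sgn j = 1} \ {j₀}) with hG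
    have hbG : b ∈ G.cham := mem_cham_stdFacet b _
    have hGsgn : ∀ j ∈ b.support, G.sgn j = if (F.sgn j = 1 ∧ j ≠ j₀) then 1 else 0 := by
      intro j hj
      rw [hG, stdFacet_sgn_simple _ hj]
      by_cases hcond : F.sgn j = 1 ∧ j ≠ j₀
      · rw [if_pos hcond, if_pos (show j ∈ {j | F.sgn j = 1} \ {j₀} from ⟨hcond.1, hcond.2⟩)]
      · rw [if_neg hcond, if_neg (show j ∉ {j | F.sgn j = 1} \ {j₀} from
          fun h => hcond ⟨h.1, h.2⟩)]
    have hFG : F ≤ G := by
      rw [le_iff_of_mem_cham hb hbG]
      intro j hj h0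
      rw [hGsgn j hj, if_neg]
      rintro ⟨h1, -⟩
      rw [h0] at h1
      exact zero_ne_one h1
    have hτ : parabSum G - parabSum F ∈ Submodule.span R F.corners :=
      Submodule.sub_mem _ (span_corners_le_of_le hFG (parabSum_mem_span_corners G))
        (parabSum_mem_span_corners F)
    have e1 : G.deg d b - F.deg d b =
        P.toLinearMap (parabSum G) y - P.toLinearMap (parabSum F) y := by
      rw [deg_eq_pair_parabSum, deg_eq_pair_parabSum, ← LinearMap.sub_apply, ← map_sub,
        ← pair_eq_of_mem_iInter_hyper hd hb hy1 hτ, map_sub, LinearMap.sub_apply]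
    rw [pair_parabSum_sub_of_le hFG] at e1
    have hnn : 0 ≤ ∑ i ∈ (Set.toFinite G.parab).toFinset \ (Set.toFinite F.parab).toFinset,
        P.toLinearMap (P.root i) y := by
      apply Finset.sum_nonneg
      intro i hi
      rw [Finset.mem_sdiff, Set.Finite.mem_toFinset, Set.Finite.mem_toFinset] at hi
      have hFi : F.sgn i = -1 := by
        have := hi.2
        change ¬ (F.sgn i ≠ -1) at this
        exact not_not.mp this
      have hGi : G.sgn i = 0 := by
        rcases hFG i with h | h
        · exact h
        · exact (hi.1 (h.trans hFi)).elim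
      have hnpos : ¬ b.IsPos i := fun hp => sgn_ne_neg_one_of_isPos hb hp hFi
      have hGz : ∀ l ∈ b.support, P.toLinearMap (P.root i) (fcw b l) ≠ 0 → G.sgn l = 0 := by
        have := hGi
        rw [sgn_eq_stdSgn hbG, stdSgn_eq_zero_iff] at this
        exact this
      rw [pair_root_eq_sum b y i]
      apply Finset.sum_nonneg
      intro l hl
      by_cases hl0 : l = j₀
      · rw [hl0]
        exact mul_nonneg_of_nonpos_of_nonpos (root_coeff_nonpos hnpos j₀) hc
      · by_cases hsl : F.sgn l = 1
        · have : P.toLinearMap (P.root i) (fcw b l) = 0 := by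
            by_contra hne
            have := hGz l hl hne
            rw [hGsgn l hl, if_pos ⟨hsl, hl0⟩] at this
            exact one_ne_zero this
          rw [this, zero_mul]
        · rw [(mem_span_dualCarrier_iff hb).mp hy2' l hl (sgn_eq_zero_of_ne_one hb hl hsl),
            mul_zero]
    have h1 := hmax G b hbG
    have heq : G.deg d b = F.deg d b := by linarith
    have hGF := hmaxl G b hbG heq hFG
    have h2 := hGsgn j₀ hj₀
    rw [hGF, hs, if_neg (fun h => h.2 rfl)] at h2
    exact one_ne_zero h2
  · -- `y` lies in the dual solid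
    rw [dualSolid_eq hd]
    refine ⟨hy1, ?_⟩
    simp only [Set.mem_iInter]
    intro m hm
    simp only [Facet.corners', Set.mem_iUnion] at hm
    obtain ⟨c, hc, hmc⟩ := hm
    rw [baseCorners_eq] at hmc
    obtain ⟨j₁, hj₁, rfl⟩ := hmc
    intro c' hc'
    change P.toLinearMap (fw c j₁) (d c') ≤ P.toLinearMap (fw c j₁) y
    rw [← hd.corner_eq c c' _ (fw_mem_baseCorners hj₁) hc']
    by_contra hlt
    push Not at hlt
    have hs0 : F.sgn j₁ = 0 := by
      apply sgn_eq_zero_of_ne_one hc hj₁
      intro hs1
      have hmF : fw c j₁ ∈ F.corners := by rw [corners_eq hc]; exact ⟨j₁, ⟨hj₁, hs1⟩, rfl⟩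
      have := (mem_iInter_hyper_iff hd hc).mp hy1 _ hmF
      rw [this] at hlt
      exact lt_irrefl _ hlt
    set G := stdFacet c ({j | F.sgn j = 1} ∪ {j₁}) with hG
    have hcG : c ∈ G.cham := mem_cham_stdFacet c _
    have hGsgn : ∀ j ∈ c.support, G.sgn j = if (F.sgn j = 1 ∨ j = j₁) then 1 else 0 := by
      intro j hj
      rw [hG, stdFacet_sgn_simple _ hj]
      by_cases hcond : F.sgn j = 1 ∨ j = j₁
      · rw [if_pos hcond, if_pos (show j ∈ {j | F.sgn j = 1} ∪ {j₁} from hcond)]
      · rw [if_neg hcond, if_neg (show j ∉ {j | F.sgn j = 1} ∪ {j₁} from hcond)]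
    have hGF : G ≤ F := by
      rw [le_iff_of_mem_cham hcG hc]
      intro j hj h0
      rw [hGsgn j hj] at h0
      apply sgn_eq_zero_of_ne_one hc hj
      intro h1
      rw [if_pos (Or.inl h1)] at h0
      exact one_ne_zero h0
    have hτy : P.toLinearMap (parabSum F) y - P.toLinearMap (parabSum G) y = 0 := by
      rw [pair_parabSum_sub_of_le hGF]
      apply Finset.sum_eq_zero
      intro i hi
      rw [Finset.mem_sdiff, Set.Finite.mem_toFinset, Set.Finite.mem_toFinset] at hi
      have hGi : G.sgn i = -1 := by
        have := hi.2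
        change ¬ (G.sgn i ≠ -1) at this
        exact not_not.mp this
      have hFi : F.sgn i = 0 := by
        rcases hGF i with h | h
        · exact h
        · exact (hi.1 (h.trans hGi)).elim
      exact pair_root_eq_zero_of_mem_span_dualCarrier hy2' hFi
    have hdiff : (G.deg d c - F.deg d c) =
        ∑ j ∈ c.support, (P.toLinearMap (parabSum G) (P.coroot j) -
          P.toLinearMap (parabSum F) (P.coroot j)) *
          (P.toLinearMap (fw c j) (d c) - P.toLinearMap (fw c j) y) := by
      have e : G.deg d c - F.deg d c = (G.deg d c - F.deg d c) +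
          (P.toLinearMap (parabSum F) y - P.toLinearMap (parabSum G) y) := by rw [hτy, add_zero]
      rw [e, deg_eq_sum, deg_eq_sum, pair_eq_sum_fw c (parabSum F) y,
        pair_eq_sum_fw c (parabSum G) y, ← Finset.sum_sub_distrib, ← Finset.sum_sub_distrib,
        ← Finset.sum_add_distrib]
      refine Finset.sum_congr rfl fun j _ => ?_
      ring
    have hpos : 0 < G.deg d c - F.deg d c := by
      rw [hdiff]
      apply Finset.sum_pos'
      · intro j hj
        by_cases hj1 : j = j₁
        · rw [hj1]
          apply mul_nonneg _ (by linarith)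
          have h2 := two_le_pair_parabSum hcG hj₁ (by rw [hGsgn j₁ hj₁, if_pos (Or.inr rfl)])
          rw [pair_parabSum_of_sgn_zero F hs0]
          linarith
        · by_cases hsj : F.sgn j = 1
          · have hmF : fw c j ∈ F.corners := by rw [corners_eq hc]; exact ⟨j, ⟨hj, hsj⟩, rfl⟩
            rw [(mem_iInter_hyper_iff hd hc).mp hy1 _ hmF, sub_self, mul_zero]
          · have hF0 := sgn_eq_zero_of_ne_one hc hj hsj
            have hG0 : G.sgn j = 0 := by
              rw [hGsgn j hj, if_neg]
              rintro (h | h)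
              · exact hsj h
              · exact hj1 h
            rw [pair_parabSum_of_sgn_zero F hF0, pair_parabSum_of_sgn_zero G hG0, sub_self,
              zero_mul]
      · refine ⟨j₁, hj₁, ?_⟩
        apply mul_pos _ (by linarith)
        have h2 := two_le_pair_parabSum hcG hj₁ (by rw [hGsgn j₁ hj₁, if_pos (Or.inr rfl)])
        rw [pair_parabSum_of_sgn_zero F hs0]
        linarith
    have h1 := hmax G c hcG
    rw [deg_eq_deg hd hc hb] at hpos
    linarith

instance finite_facet : Finite (Facet P) :=
  Finite.of_injective (fun F : Facet P => F.sgn) (fun _ _ h => Facet.ext h)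

/-- The degree of a facet (computed at a chosen adjacent chamber). -/
noncomputable def degF (d : P.Base → N) (F : Facet P) : R := F.deg d (cham_nonempty F).some

lemma degF_eq {d : P.Base → N} (hd : IsCCS d) {F : Facet P} {b : P.Base} (hb : b ∈ F.cham) :
    degF d F = F.deg d b := deg_eq_deg hd (cham_nonempty F).some_mem hb

/-- S14246 in library form. -/
theorem existsUnique_isSpecial {d : P.Base → N} (hd : IsCCS d) :
    ∃! F : Facet P, IsSpecial d F := by
  haveI : Nonempty (Facet P) := ⟨Facet.origin P⟩
  obtain ⟨F₀, hF₀⟩ := Finite.exists_max (degF d (P := P))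
  obtain ⟨F₁, hF₁⟩ := Set.Finite.exists_maximal (Set.toFinite {F : Facet P | degF d F = degF d F₀})
    ⟨F₀, rfl⟩
  obtain ⟨b, hb⟩ := cham_nonempty F₁
  have hdeg1 : degF d F₁ = degF d F₀ := hF₁.1
  have hspec : IsSpecial d F₁ := by
    apply isSpecial_of_maximal hd hb
    · intro G c hc
      rw [← degF_eq hd hc, ← degF_eq hd hb, hdeg1]
      exact hF₀ G
    · intro G c hc heq hle
      have hG : G ∈ {F : Facet P | degF d F = degF d F₀} := by
        change degF d G = degF d F₀
        rw [degF_eq hd hc, heq, ← degF_eq hd hb, hdeg1]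
      exact le_antisymm (hF₁.2 hG hle) hle
  refine ⟨F₁, hspec, ?_⟩
  intro F hF
  obtain ⟨c, hc⟩ := cham_nonempty F
  obtain ⟨h1, h2⟩ := isGreatest_of_isSpecial hd hb hspec
  obtain ⟨h3, h4⟩ := isGreatest_of_isSpecial hd hc hF
  have heq : F.deg d c = F₁.deg d b := le_antisymm (h1 F c hc) (h3 F₁ b hb)
  exact le_antisymm (h2 F c hc heq) (h4 F₁ b hb heq.symm)

end Maximal

end Groth.Agent.Lib.Helper6.RCh
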