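import Groth.Agent.Lib.Helper6.RootCh.Maximal

/-!
# The special facet and the point of the solid closest to the origin
-/

set_option linter.unusedSectionVars false

namespace Groth.Agent.Lib.Helper6.RCh

open scoped Classical

open RootPairing Module Set RootCh

universe u v w x
variable {ι : Type u} {R : Type v} {M : Type w} {N : Type x}

section Norm

variable [Field R] [LinearOrder R] [IsStrictOrderedRing R]
  [AddCommGroup M] [Module R M] [AddCommGroup N] [Module R N] [Finite ι]
  {P : RootPairing ι R M N} [P.IsRootSystem] [P.IsCrystallographic] [P.IsReduced]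

variable (B : LinearMap.BilinForm R N) (hBs : ∀ y z : N, B y z = B z y)
  (hBp : ∀ y : N, y ≠ 0 → 0 < B y y)
  (hBi : ∀ (i : ι) (y z : N), B (P.coreflection i y) (P.coreflection i z) = B y z)

include hBi in
lemma two_mul_B_coroot (i : ι) (x : N) :
    2 * B (P.coroot i) x = P.toLinearMap (P.root i) x * B (P.coroot i) (P.coroot i) := by
  have h := hBi i (P.coroot i) x
  rw [P.coreflection_apply_self, RootPairing.coreflection_apply] at h
  simp only [map_neg, LinearMap.neg_apply, map_sub, map_smul, smul_eq_mul] at h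
  change -(B (P.coroot i)) x - P.toLinearMap (P.root i) x * -(B (P.coroot i)) (P.coroot i) =
    (B (P.coroot i)) x at h
  linarith

/-- The vector of `M` representing `B y₀`. -/
noncomputable def rep (y₀ : N) : M := P.toLinearMap.toPerfPair.symm (B y₀)

lemma pair_rep (y₀ x : N) : P.toLinearMap (rep (P := P) B y₀) x = B y₀ x := by
  unfold rep
  rw [LinearMap.apply_symm_toPerfPair_self]

include hBs hBp hBi in
lemma sgnVec_rep (y₀ : N) : sgnVec P (rep (P := P) B y₀) = cosgnVec P y₀ := by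
  funext i
  change SignType.sign (P.toLinearMap (rep (P := P) B y₀) (P.coroot i)) =
    SignType.sign (P.toLinearMap (P.root i) y₀)
  rw [pair_rep, hBs]
  have h1 := two_mul_B_coroot B hBi i y₀
  have h2 : 0 < B (P.coroot i) (P.coroot i) := hBp _ (P.ne_zero' i)
  have h3 := congrArg SignType.sign h1
  rw [sign_mul, sign_mul, sign_pos h2, mul_one, sign_pos (by norm_num : (0 : R) < 2), one_mul] at h3
  exact h3

include hBs hBp hBi in
lemma rep_mem_carrier {F : Facet P} {y₀ : N} (hy : y₀ ∈ F.dualCarrier) :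
    rep (P := P) B y₀ ∈ F.carrier := by
  change sgnVec P _ = F.sgn
  rw [sgnVec_rep B hBs hBp hBi]
  exact hy

include hBs hBp in
lemma B_lt_of_le {y₀ y : N} (hne : y ≠ y₀) (h : B y₀ y₀ ≤ B y₀ y) : B y₀ y₀ < B y y := by
  set v := y - y₀ with hv
  have hv0 : v ≠ 0 := sub_ne_zero.mpr hne
  have h1 : 0 < B v v := hBp v hv0
  have e : y = y₀ + v := by rw [hv]; abel
  have h2 : B y y = B y₀ y₀ + 2 * B y₀ v + B v v := by
    rw [e]
    simp only [map_add, LinearMap.add_apply]
    rw [hBs v y₀]; ring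
  have h3 : B y₀ v = B y₀ y - B y₀ y₀ := by rw [hv, map_sub]
  rw [h2]
  linarith

include hBs hBp hBi in
/-- S14244 in library form. -/
theorem exists_min_of_isSpecial {d : P.Base → N} (hd : IsCCS d) {F : Facet P}
    (hF : IsSpecial d F) :
    ∃ y₀ : N, yLocus d F = {y₀} ∧ y₀ ∈ solid d ∧
      ∀ y ∈ solid d, y ≠ y₀ → B y₀ y₀ < B y y := by
  obtain ⟨y₀, hy1, hy2⟩ := hF
  obtain ⟨b, hb⟩ := cham_nonempty F
  have hyl := mem_yLocus_of_mem_inter hd hy1 hy2
  refine ⟨y₀, yLocus_eq_singleton hd hyl, dualSolid_subset_solid d F hy2, ?_⟩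
  intro y hy hne
  apply B_lt_of_le B hBs hBp hne
  have hm := rep_mem_carrier B hBs hBp hBi hy1
  have h1 := pair_le_of_mem_solid hd (hb hm) hy
  have h2 := pair_eq_of_mem_iInter_hyper hd hb hyl.1 (carrier_subset_span_corners F hm)
  rw [← pair_rep (P := P) B y₀ y₀, ← pair_rep (P := P) B y₀ y, h2]
  exact h1

include hBs hBp in
/-- First-order optimality at the minimum of the norm on a convex set. -/
lemma B_le_of_min {S : Set N} (hS : Convex R S) {y₀ : N} (hy₀ : y₀ ∈ S)
    (hmin : ∀ y ∈ S, B y₀ y₀ ≤ B y y) {y : N} (hy : y ∈ S) : B y₀ y₀ ≤ B y₀ y := by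
  by_contra hlt
  push Not at hlt
  set v := y - y₀ with hv
  have h3 : B y₀ v = B y₀ y - B y₀ y₀ := by rw [hv, map_sub]
  have hneg : B y₀ v < 0 := by rw [h3]; linarith
  have hv0 : v ≠ 0 := by
    intro h0; rw [h0, map_zero] at hneg; exact lt_irrefl _ hneg
  have hvv : 0 < B v v := hBp v hv0
  set t : R := min 1 (-(B y₀ v) / B v v) with ht
  have ht0 : 0 < t := lt_min one_pos (div_pos (neg_pos.mpr hneg) hvv)
  have ht1 : t ≤ 1 := min_le_left _ _
  have ht2 : t * B v v ≤ -(B y₀ v) := by
    have : t ≤ -(B y₀ v) / B v v := min_le_right _ _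
    calc t * B v v ≤ (-(B y₀ v) / B v v) * B v v := mul_le_mul_of_nonneg_right this hvv.le
      _ = -(B y₀ v) := div_mul_cancel₀ _ hvv.ne'
  have hyt : y₀ + t • v ∈ S := by
    have : y₀ + t • v = (1 - t) • y₀ + t • y := by rw [hv]; module
    rw [this]
    exact hS hy₀ hy (by linarith) ht0.le (by ring)
  have h4 := hmin _ hyt
  have h5 : B (y₀ + t • v) (y₀ + t • v) = B y₀ y₀ + t * (2 * B y₀ v + t * B v v) := by
    simp only [map_add, LinearMap.add_apply, map_smul, LinearMap.smul_apply, smul_eq_mul]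
    rw [hBs v y₀]; ring
  rw [h5] at h4
  have h6 : t * (2 * B y₀ v + t * B v v) < 0 := by
    apply mul_neg_of_pos_of_neg ht0
    linarith
  linarith

include hBs hBp hBi in
/-- S14245 in library form. -/
theorem isSpecial_of_min {d : P.Base → N} (hd : IsCCS d) {y₀ : N} (hy₀ : y₀ ∈ solid d)
    (hmin : ∀ y ∈ solid d, B y₀ y₀ ≤ B y y) {F : Facet P} (hF : y₀ ∈ F.dualCarrier) :
    IsSpecial d F ∧ yLocus d F = {y₀} := by
  obtain ⟨b₀, hb₀⟩ := cham_nonempty F
  set m₀ := rep (P := P) B y₀ with hm₀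
  have hm : m₀ ∈ F.carrier := rep_mem_carrier B hBs hBp hBi hF
  have hmc : m₀ ∈ closedChamber b₀ := hb₀ hm
  have hstep : ∀ y ∈ solid d, P.toLinearMap m₀ y₀ ≤ P.toLinearMap m₀ y := by
    intro y hy
    rw [pair_rep, pair_rep]
    exact B_le_of_min B hBs hBp (convex_convexHull R _) hy₀ hmin hy
  have hdb₀ : d b₀ ∈ solid d := subset_convexHull R _ ⟨b₀, rfl⟩
  have hc₀ : P.toLinearMap m₀ y₀ = P.toLinearMap m₀ (d b₀) :=
    le_antisymm (hstep _ hdb₀) (pair_le_of_mem_solid hd hmc hy₀)
  -- the face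
  have hfin : (Set.range d).Finite := Set.finite_range d
  have hy₀' : y₀ ∈ convexHull R ((hfin.toFinset : Finset N) : Set N) := by
    rw [Set.Finite.coe_toFinset]; exact hy₀
  have hface := mem_convexHull_face hfin.toFinset (P.toLinearMap m₀) (P.toLinearMap m₀ y₀)
    (by
      intro s hs
      rw [Set.Finite.mem_toFinset] at hs
      obtain ⟨b, rfl⟩ := hs
      exact hstep _ (subset_convexHull R _ ⟨b, rfl⟩)) hy₀' rfl
  have hsub : ((hfin.toFinset.filter
      (fun s => P.toLinearMap m₀ s = P.toLinearMap m₀ y₀) : Finset N) : Set N) ⊆ dualSolid d F := by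
    intro s hs
    rw [Finset.mem_coe, Finset.mem_filter, Set.Finite.mem_toFinset] at hs
    obtain ⟨⟨b, rfl⟩, hs⟩ := hs
    rw [dualSolid_eq hd]
    refine ⟨?_, ?_⟩
    · rw [mem_iInter_hyper_iff hd hb₀]
      intro m hmem
      rw [corners_eq hb₀] at hmem
      obtain ⟨j, ⟨hj, hsj⟩, rfl⟩ := hmem
      -- all terms of the expansion vanish
      have hexp : ∑ l ∈ b₀.support, P.toLinearMap m₀ (P.coroot l) *
          (P.toLinearMap (fw b₀ l) (d b) - P.toLinearMap (fw b₀ l) (d b₀)) = 0 := by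
        have h1 := pair_eq_sum_fw b₀ m₀ (d b)
        have h2 := pair_eq_sum_fw b₀ m₀ (d b₀)
        rw [hs, hc₀] at h1
        have : ∑ l ∈ b₀.support, P.toLinearMap m₀ (P.coroot l) *
            (P.toLinearMap (fw b₀ l) (d b) - P.toLinearMap (fw b₀ l) (d b₀)) =
            ∑ l ∈ b₀.support, P.toLinearMap m₀ (P.coroot l) * P.toLinearMap (fw b₀ l) (d b) -
            ∑ l ∈ b₀.support, P.toLinearMap m₀ (P.coroot l) * P.toLinearMap (fw b₀ l) (d b₀) := by
          rw [← Finset.sum_sub_distrib]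
          exact Finset.sum_congr rfl fun l _ => by ring
        rw [this, ← h1, ← h2, sub_self]
      have hterm := (Finset.sum_eq_zero_iff_of_nonneg (fun l hl =>
        mul_nonneg (mem_closedChamber_iff.mp hmc l hl)
          (sub_nonneg.mpr (pair_le_pair hd b₀ (fw_mem_closedChamber hl) b)))).mp hexp j hj
      have hpos : 0 < P.toLinearMap m₀ (P.coroot j) := by
        have := (mem_carrier_iff hb₀).mp hm j hj
        rw [hsj, sign_eq_one_iff] at this
        exact this
      have := (mul_eq_zero.mp hterm).resolve_left hpos.ne'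
      exact sub_eq_zero.mp this
    · simp only [Set.mem_iInter]
      intro m _
      exact d_mem_halfClosed hd b m
  have hy₀s : y₀ ∈ dualSolid d F :=
    convexHull_min hsub (convex_convexHull R _) hface
  exact ⟨⟨y₀, hF, hy₀s⟩, yLocus_eq_singleton hd (mem_yLocus_of_mem_inter hd hF hy₀s)⟩

end Norm

end Groth.Agent.Lib.Helper6.RCh
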