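import Groth.Agent.Lib.Helper6.RootCh.Maximal

/-!
# Parabolic sets of roots and facets
-/

set_option linter.unusedSectionVars false

namespace Groth.Agent.Lib.Helper6.RCh

open scoped Classical

open RootPairing Module Set RootCh

universe u v w x
variable {ι : Type u} {R : Type v} {M : Type w} {N : Type x}

section Parabolic

variable [Field R] [LinearOrder R] [IsStrictOrderedRing R]
  [AddCommGroup M] [Module R M] [AddCommGroup N] [Module R N] [Finite ι]
  {P : RootPairing ι R M N} [P.IsRootSystem] [P.IsCrystallographic] [P.IsReduced]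

lemma exists_mem_dualCarrier (F : Facet P) : ∃ x : N, x ∈ F.dualCarrier := by
  obtain ⟨ξ, hξ⟩ := F.exists_sgnVec_eq
  exact ⟨pol P ξ, by change cosgnVec P _ = F.sgn; rw [cosgnVec_pol, hξ]⟩

/-- The parabolic set of a facet is a parabolic set of roots. -/
theorem isParabolicSubset_parab (F : Facet P) : IsParabolicSubset P F.parab := by
  obtain ⟨x, hx⟩ := exists_mem_dualCarrier F
  have hsign : ∀ i, SignType.sign (P.toLinearMap (P.root i) x) = F.sgn i := fun i => congrFun hx i
  have hmem : ∀ i, i ∈ F.parab ↔ 0 ≤ P.toLinearMap (P.root i) x := by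
    intro i
    change F.sgn i ≠ -1 ↔ _
    rw [← hsign, Ne, sign_eq_neg_one_iff, not_lt]
  refine ⟨?_, ?_⟩
  · intro i j k hi hj hk
    rw [hmem] at hi hj ⊢
    rw [hk, map_add, LinearMap.add_apply]
    exact add_nonneg hi hj
  · intro i
    change i ∈ F.parab ∨ ng P i ∈ F.parab
    rw [hmem, hmem, root_ng, map_neg, LinearMap.neg_apply]
    rcases le_total 0 (P.toLinearMap (P.root i) x) with h | h
    · left; exact h
    · right; linarith

lemma notMem_parab_iff (F : Facet P) (i : ι) : i ∉ F.parab ↔ F.sgn i = -1 := by
  change ¬ (F.sgn i ≠ -1) ↔ _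
  exact not_not

lemma sgn_eq_of_parab_eq {F G : Facet P} (h : F.parab = G.parab) : F = G := by
  apply Facet.ext
  funext i
  have h1 : F.sgn i = -1 ↔ G.sgn i = -1 := by
    rw [← notMem_parab_iff, ← notMem_parab_iff, h]
  have h2 : F.sgn (ng P i) = -1 ↔ G.sgn (ng P i) = -1 := by
    rw [← notMem_parab_iff, ← notMem_parab_iff, h]
  rw [sgn_ng, sgn_ng] at h2
  revert h1 h2
  cases F.sgn i <;> cases G.sgn i <;> decide

lemma le_iff_parab_subset (F G : Facet P) : F ≤ G ↔ F.parab ⊆ G.parab := by
  constructor
  · exact parab_subset_of_le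
  · intro h i
    have h1 : G.sgn i = -1 → F.sgn i = -1 := by
      intro hG
      rw [← notMem_parab_iff] at hG ⊢
      exact fun hF => hG (h hF)
    have h2 : G.sgn (ng P i) = -1 → F.sgn (ng P i) = -1 := by
      intro hG
      rw [← notMem_parab_iff] at hG ⊢
      exact fun hF => hG (h hF)
    rw [sgn_ng, sgn_ng] at h2
    revert h1 h2
    cases F.sgn i <;> cases G.sgn i <;> decide

/-- A parabolic set contains the positive roots of some base. -/
lemma exists_base_pos_subset {S : Set ι} (hS : IsParabolicSubset P S) :
    ∃ b : P.Base, ∀ i, b.IsPos i → i ∈ S := by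
  obtain ⟨b, hb⟩ := exists_base_forall_not (P := P) (fun i => i ∉ S) (by
    intro i hi
    rcases hS.2 i with h | h
    · exact (hi h).elim
    · exact not_not.mpr h)
  refine ⟨b, fun i hi => ?_⟩
  refine hi.induction_on_add (fun k hk => not_not.mp (hb k hk)) ?_
  intro i j k hk hi hj
  exact hS.1 i j k hi (not_not.mp (hb j hj)) hk

lemma coeff_add {b : P.Base} {i j k : ι} (hk : P.root k = P.root i + P.root j) (l : ι) :
    P.toLinearMap (P.root k) (fcw b l) =
      P.toLinearMap (P.root i) (fcw b l) + P.toLinearMap (P.root j) (fcw b l) := by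
  rw [hk, map_add, LinearMap.add_apply]

/-- For a parabolic set `S` containing the positive roots of `b`: the negative of a positive root
`k` lies in `S` iff the negatives of all simple roots in the support of `k` do. -/
lemma neg_mem_iff {S : Set ι} (hS : IsParabolicSubset P S) {b : P.Base}
    (hb : ∀ i, b.IsPos i → i ∈ S) {k : ι} (hk : b.IsPos k) :
    ng P k ∈ S ↔ ∀ l ∈ b.support, P.toLinearMap (P.root k) (fcw b l) ≠ 0 → ng P l ∈ S := by
  have key : b.IsPos k ∧ (ng P k ∈ S ↔
      ∀ l ∈ b.support, P.toLinearMap (P.root k) (fcw b l) ≠ 0 → ng P l ∈ S) := by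
    refine hk.induction_on_add (p := fun k => b.IsPos k ∧ (ng P k ∈ S ↔
      ∀ l ∈ b.support, P.toLinearMap (P.root k) (fcw b l) ≠ 0 → ng P l ∈ S)) ?_ ?_
    · intro k hk
      refine ⟨Base.isPos_of_mem_support hk, ?_, ?_⟩
      · intro h l hl hne
        by_cases hlk : l = k
        · rw [hlk]; exact h
        · exact (hne (pair_root_fcw_ne hl hk hlk)).elim
      · intro h
        exact h k hk (by rw [pair_root_fcw_self hk]; exact one_ne_zero)
    · intro i j k hk ⟨hipos, hi⟩ hj
      have hjpos := Base.isPos_of_mem_support (b := b) hj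
      have hkpos : b.IsPos k := hipos.add hjpos hk
      refine ⟨hkpos, ?_, ?_⟩
      · intro h
        -- `-k ∈ S`, so `-i ∈ S` and `-j ∈ S`
        have hni : ng P i ∈ S := by
          apply hS.1 (ng P k) j (ng P i) h (hb j hjpos)
          rw [root_ng, root_ng, hk]; abel
        have hnj : ng P j ∈ S := by
          apply hS.1 (ng P k) i (ng P j) h (hb i hipos)
          rw [root_ng, root_ng, hk]; abel
        intro l hl hne
        by_cases hlj : l = j
        · rw [hlj]; exact hnj
        · apply hi.mp hni l hl
          rw [coeff_add hk, pair_root_fcw_ne hl hj hlj, add_zero] at hne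
          exact hne
      · intro h
        have hni : ng P i ∈ S := by
          apply hi.mpr
          intro l hl hne
          apply h l hl
          rw [coeff_add hk]
          have h1 := root_coeff_nonneg hipos l
          have h2 := root_coeff_nonneg hjpos l
          have h3 : 0 < P.toLinearMap (P.root i) (fcw b l) := lt_of_le_of_ne h1 (Ne.symm hne)
          linarith
        have hnj : ng P j ∈ S := by
          apply h j hj
          rw [coeff_add hk, pair_root_fcw_self hj]
          have h1 := root_coeff_nonneg hipos j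
          linarith
        apply hS.1 (ng P i) (ng P j) (ng P k) hni hnj
        rw [root_ng, root_ng, root_ng, hk]; abel
  exact key.2

/-- Every parabolic set of roots is the parabolic set of a facet. -/
theorem exists_facet_parab_eq {S : Set ι} (hS : IsParabolicSubset P S) :
    ∃ F : Facet P, F.parab = S := by
  obtain ⟨b, hb⟩ := exists_base_pos_subset hS
  set F := stdFacet b {j | ng P j ∉ S} with hF
  have hbF : b ∈ F.cham := mem_cham_stdFacet b _
  have hsgn : ∀ l ∈ b.support, (F.sgn l = 0 ↔ ng P l ∈ S) := by
    intro l hl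
    rw [hF, stdFacet_sgn_simple _ hl]
    by_cases h : ng P l ∈ S
    · rw [if_neg (show l ∉ {j | ng P j ∉ S} from fun h' => h' h)]; simp [h]
    · rw [if_pos (show l ∈ {j | ng P j ∉ S} from h)]; simp [h]
  refine ⟨F, ?_⟩
  ext i
  rw [mem_parab_iff hbF]
  by_cases hi : b.IsPos i
  · simp only [hi, true_or, true_iff]
    exact hb i hi
  · simp only [hi, false_or, not_false_eq_true, true_and]
    have hpos : b.IsPos (ng P i) := (isPos_ng_iff b i).mpr hi
    have h1 := neg_mem_iff hS hb hpos
    rw [ng_ng] at h1
    rw [h1, sgn_eq_stdSgn hbF, stdSgn_eq_zero_iff]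
    refine forall₂_congr fun l hl => ?_
    rw [root_ng, map_neg, LinearMap.neg_apply]
    constructor
    · intro h hne
      exact (hsgn l hl).mp (h (fun h0 => hne (by rw [h0, neg_zero])))
    · intro h hne
      exact (hsgn l hl).mpr (h (fun h0 => hne (neg_eq_zero.mp h0)))

end Parabolic

end Groth.Agent.Lib.Helper6.RCh
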