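import Groth.Agent.Lib.Helper6.RootCh.Weights

/-!
# The polarization `M ≃ N` of a finite root system over an ordered field, and root lengths
-/

namespace Groth.Agent.Lib.Helper6.RCh

open RootPairing Module Set RootCh

universe u v w x
variable {ι : Type u} {R : Type v} {M : Type w} {N : Type x}

section Polar

variable [Field R] [LinearOrder R] [IsStrictOrderedRing R]
  [AddCommGroup M] [Module R M] [AddCommGroup N] [Module R N] [Finite ι]
  (P : RootPairing ι R M N) [P.IsRootSystem]

/-- The polarization equivalence, with the `Fintype` instance chosen classically. -/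
noncomputable def pol : M ≃ₗ[R] N :=
  letI := Fintype.ofFinite ι
  P.PolarizationEquiv

/-- Half the squared length of the root `i` for the canonical invariant form. -/
noncomputable def len (i : ι) : R :=
  letI := Fintype.ofFinite ι
  P.RootForm (P.root i) (P.root i) / 2

lemma pair_pol (ξ η : M) :
    P.toLinearMap η (pol P ξ) = (letI := Fintype.ofFinite ι; P.RootForm ξ η) := by
  letI := Fintype.ofFinite ι
  change P.toLinearMap η (P.PolarizationEquiv ξ) = _
  rw [polarizationEquiv_apply, toLinearMap_apply_apply_Polarization]

lemma pair_pol_symm (ξ η : M) :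
    P.toLinearMap η (pol P ξ) = P.toLinearMap ξ (pol P η) := by
  letI := Fintype.ofFinite ι
  rw [pair_pol, pair_pol]
  exact (P.rootForm_symmetric.eq η ξ).symm

lemma pair_pol_self_pos {ξ : M} (h : ξ ≠ 0) : 0 < P.toLinearMap ξ (pol P ξ) := by
  letI := Fintype.ofFinite ι
  rw [pair_pol]
  apply P.rootForm_pos_of_ne_zero _ h
  rw [rootSpan, IsRootSystem.span_root_eq_top]; trivial

lemma len_pos (i : ι) : 0 < len P i := by
  letI := Fintype.ofFinite ι
  have h : 0 < P.RootForm (P.root i) (P.root i) := by
    apply P.rootForm_pos_of_ne_zero _ (P.ne_zero i)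
    rw [rootSpan, IsRootSystem.span_root_eq_top]; trivial
  unfold len
  positivity

lemma pol_root (i : ι) : pol P (P.root i) = len P i • P.coroot i := by
  letI := Fintype.ofFinite ι
  change P.PolarizationEquiv (P.root i) = (P.RootForm (P.root i) (P.root i) / 2) • P.coroot i
  rw [polarizationEquiv_apply, div_eq_inv_mul, mul_smul, P.rootForm_self_smul_coroot i,
    two_smul, ← two_smul R, smul_smul, inv_mul_cancel₀ two_ne_zero, one_smul]

lemma pair_root_pol (i : ι) (ξ : M) :
    P.toLinearMap (P.root i) (pol P ξ) = len P i * P.toLinearMap ξ (P.coroot i) := by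
  rw [pair_pol_symm, pol_root, map_smul, smul_eq_mul]

lemma pol_reflection (k : ι) (ξ : M) :
    pol P (P.reflection k ξ) = P.coreflection k (pol P ξ) := by
  rw [RootPairing.reflection_apply, RootPairing.coreflection_apply, map_sub, map_smul, pol_root,
    pair_root_pol, smul_smul]
  simp only [coroot', LinearMap.flip_apply]
  rw [mul_comm]

variable {P}

lemma pol_fw {b : P.Base} {j : ι} (hj : j ∈ b.support) : pol P (fw b j) = len P j • fcw b j := by
  classical
  apply ext_root b
  intro l hl
  rw [pair_root_pol, map_smul, smul_eq_mul, pair_fw_coroot hj hl, pair_root_fcw hj hl]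
  split_ifs with h
  · subst h; rfl
  · simp

/-- The coefficient of the coroot `i` along the simple coroot `j` and the coefficient of the root
`i` along the simple root `j` differ by the positive factor `len j / len i`. -/
lemma len_mul_pair_fw_coroot {b : P.Base} {j : ι} (hj : j ∈ b.support) (i : ι) :
    len P i * P.toLinearMap (fw b j) (P.coroot i) = len P j * P.toLinearMap (P.root i) (fcw b j) := by
  rw [← pair_root_pol, pol_fw hj, map_smul, smul_eq_mul]

end Polar

end Groth.Agent.Lib.Helper6.RCh
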