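import Mathlib
import Groth.Prelude.Def_RootCh2

/-!
# Reflecting a base of a root system in a root; positivity under reflection
-/

namespace Groth.Agent.Lib.Helper6.RCh

open RootPairing Module Set

universe u v w x
variable {ι : Type u} {R : Type v} {M : Type w} {N : Type x}

section General

variable [CommRing R] [AddCommGroup M] [Module R M] [AddCommGroup N] [Module R N]
  {P : RootPairing ι R M N}

lemma base_ext {b b' : P.Base} (h : b.support = b'.support) : b = b' := by
  cases b; cases b'; cases h; rfl

lemma image_root_map (s : Finset ι) (k : ι) :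
    P.root '' ↑(s.map (P.reflectionPerm k).toEmbedding) = P.reflection k '' (P.root '' ↑s) := by
  ext m
  simp only [Finset.coe_map, Equiv.coe_toEmbedding, mem_image, Finset.mem_coe, exists_exists_and_eq_and,
    root_reflectionPerm]

lemma image_coroot_map (s : Finset ι) (k : ι) :
    P.coroot '' ↑(s.map (P.reflectionPerm k).toEmbedding) =
      P.coreflection k '' (P.coroot '' ↑s) := by
  ext m
  simp only [Finset.coe_map, Equiv.coe_toEmbedding, mem_image, Finset.mem_coe, exists_exists_and_eq_and,
    coroot_reflectionPerm]

lemma mem_closure_image_equiv {A : Type*} [AddCommGroup A] [Module R A] (e : A ≃ₗ[R] A)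
    (he : ∀ x, e (e x) = x) (S : Set A) (x : A) :
    x ∈ AddSubmonoid.closure (e '' S) ↔ e x ∈ AddSubmonoid.closure S := by
  have h1 : AddSubmonoid.closure (e '' S) = (AddSubmonoid.closure S).map (e : A →+ A) := by
    rw [AddMonoidHom.map_mclosure]; rfl
  rw [h1, AddSubmonoid.mem_map]
  constructor
  · rintro ⟨y, hy, rfl⟩
    simpa [he] using hy
  · intro h
    exact ⟨e x, h, by simp [he]⟩

/-- The image of a base under the reflection in the root `k`. -/
noncomputable def reflect (b : P.Base) (k : ι) : P.Base where
  support := b.support.map (P.reflectionPerm k).toEmbedding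
  linearIndepOn_root := by
    have h2 : LinearIndepOn R (P.reflection k ∘ P.root) (↑b.support : Set ι) :=
      b.linearIndepOn_root.map' (P.reflection k : M →ₗ[R] M) (LinearEquiv.ker _)
    have h3 : (P.reflection k ∘ P.root) = P.root ∘ (P.reflectionPerm k) := by
      ext j; simp
    rw [h3] at h2
    rw [Finset.coe_map]
    exact LinearIndepOn.image_of_comp _ _ h2
  linearIndepOn_coroot := by
    have h2 : LinearIndepOn R (P.coreflection k ∘ P.coroot) (↑b.support : Set ι) :=
      b.linearIndepOn_coroot.map' (P.coreflection k : N →ₗ[R] N) (LinearEquiv.ker _)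
    have h3 : (P.coreflection k ∘ P.coroot) = P.coroot ∘ (P.reflectionPerm k) := by
      ext j; simp
    rw [h3] at h2
    rw [Finset.coe_map]
    exact LinearIndepOn.image_of_comp _ _ h2
  root_mem_or_neg_mem i := by
    rw [image_root_map, mem_closure_image_equiv _ (P.reflection_same k),
      mem_closure_image_equiv _ (P.reflection_same k), map_neg, ← root_reflectionPerm]
    exact b.root_mem_or_neg_mem _
  coroot_mem_or_neg_mem i := by
    rw [image_coroot_map, mem_closure_image_equiv _ (P.coreflection_same k),
      mem_closure_image_equiv _ (P.coreflection_same k), map_neg, ← coroot_reflectionPerm]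
    exact b.coroot_mem_or_neg_mem _

@[simp] lemma reflect_support (b : P.Base) (k : ι) :
    (reflect b k).support = b.support.map (P.reflectionPerm k).toEmbedding := rfl

lemma mem_reflect_support {b : P.Base} {k i : ι} :
    i ∈ (reflect b k).support ↔ P.reflectionPerm k i ∈ b.support := by
  simp only [reflect_support, Finset.mem_map, Equiv.coe_toEmbedding]
  constructor
  · rintro ⟨j, hj, rfl⟩; simpa using hj
  · intro h; exact ⟨_, h, by simp⟩

lemma reflect_reflect (b : P.Base) (k : ι) : reflect (reflect b k) k = b := by
  apply base_ext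
  ext i
  rw [mem_reflect_support, mem_reflect_support, P.reflectionPerm_self]

end General

section Pos

variable [Field R] [LinearOrder R] [IsStrictOrderedRing R]
  [AddCommGroup M] [Module R M] [AddCommGroup N] [Module R N]
  {P : RootPairing ι R M N}

lemma height_reflect (b : P.Base) (k i : ι) :
    (reflect b k).height i = b.height (P.reflectionPerm k i) := by
  obtain ⟨f, -, -, hf⟩ := b.exists_root_eq_sum_int (P.reflectionPerm k i)
  rw [Base.height_eq_sum hf]
  have h1 : P.root i = ∑ j ∈ (reflect b k).support, (f ∘ P.reflectionPerm k) j • P.root j := by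
    have := congrArg (P.reflection k) hf
    rw [← root_reflectionPerm, P.reflectionPerm_self, map_sum] at this
    rw [this, reflect_support, Finset.sum_map]
    refine Finset.sum_congr rfl fun j _ => ?_
    simp
  rw [Base.height_eq_sum h1, reflect_support, Finset.sum_map]
  refine Finset.sum_congr rfl fun j _ => ?_
  simp

lemma isPos_reflect {b : P.Base} {k i : ι} :
    (reflect b k).IsPos i ↔ b.IsPos (P.reflectionPerm k i) := by
  rw [Base.isPos_iff, Base.isPos_iff, height_reflect]

variable [Finite ι] [P.IsCrystallographic] [P.IsReduced]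

lemma isPos_reflectionPerm_iff {b : P.Base} {k : ι} (hk : k ∈ b.support) (i : ι) :
    b.IsPos (P.reflectionPerm k i) ↔ (b.IsPos i ∧ i ≠ k) ∨ i = P.reflectionPerm k k := by
  constructor
  · intro h
    by_cases h1 : P.reflectionPerm k i = k
    · right
      have := congrArg (P.reflectionPerm k) h1
      rw [P.reflectionPerm_self] at this
      exact this
    · left
      have h2 := h.reflectionPerm hk h1
      rw [P.reflectionPerm_self] at h2
      refine ⟨h2, ?_⟩
      rintro rfl
      have h3 := (Base.IsPos.neg_iff_not b i).mp h
      exact h3 (Base.isPos_of_mem_support hk)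
  · rintro (⟨h1, h2⟩ | rfl)
    · exact h1.reflectionPerm hk h2
    · rw [P.reflectionPerm_self]; exact Base.isPos_of_mem_support hk

/-- The set of roots positive for `b'` and not positive for `b`. -/
def sep (b' b : P.Base) : Set ι := {i | b'.IsPos i ∧ ¬ b.IsPos i}

lemma sep_reflect_ssubset {b' b : P.Base} {k : ι} (hk : k ∈ b'.support) (hk' : ¬ b.IsPos k) :
    sep (reflect b' k) b ⊂ sep b' b := by
  have hneg : b.IsPos (P.reflectionPerm k k) := (Base.IsPos.neg_iff_not b k).mpr hk'
  constructor
  · rintro i ⟨h1, h2⟩
    rw [isPos_reflect, isPos_reflectionPerm_iff hk] at h1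
    rcases h1 with ⟨h1, -⟩ | rfl
    · exact ⟨h1, h2⟩
    · exact (h2 hneg).elim
  · intro h
    have : k ∈ sep (reflect b' k) b := h ⟨Base.isPos_of_mem_support hk, hk'⟩
    have h1 := this.1
    rw [isPos_reflect, isPos_reflectionPerm_iff hk] at h1
    rcases h1 with ⟨-, h1⟩ | h1
    · exact h1 rfl
    · have h4 : b'.IsPos (P.reflectionPerm k k) := by
        rw [← h1]; exact Base.isPos_of_mem_support hk
      exact (Base.IsPos.neg_iff_not b' k).mp h4 (Base.isPos_of_mem_support hk)

omit [P.IsReduced] in
lemma mem_support_of_isPos_subset {b' b : P.Base} (h : ∀ i, b.IsPos i → b'.IsPos i)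
    {j : ι} (hj : j ∈ b'.support) : j ∈ b.support := by
  by_contra hj'
  have hjpos : b.IsPos j := by
    by_contra hn
    have h1 := (Base.IsPos.neg_iff_not b j).mpr hn
    have h2 := h _ h1
    exact (Base.IsPos.neg_iff_not b' j).mp h2 (Base.isPos_of_mem_support hj)
  obtain ⟨l, hl, hl'⟩ := hjpos.exists_mem_support_pos_pairingIn
  rw [P.zero_lt_pairingIn_iff'] at hl'
  have hjl : j ≠ l := fun h => hj' (h ▸ hl)
  obtain ⟨m, hm⟩ := P.root_sub_root_mem_of_pairingIn_pos hl' hjl
  have hmpos : b.IsPos m := hjpos.sub hl hm
  have h3 : P.root j = P.root m + P.root l := by rw [hm]; abel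
  have h4 := b'.height_add h3
  have h5 := (Base.isPos_iff b').mp (h _ hmpos)
  have h6 := (Base.isPos_iff b').mp (h _ (Base.isPos_of_mem_support hl))
  rw [Base.height_one_of_mem_support hj] at h4
  omega

lemma eq_of_sep_eq_empty {b' b : P.Base} (h : sep b' b = ∅) : b' = b := by
  have h1 : ∀ i, b'.IsPos i → b.IsPos i := by
    intro i hi
    by_contra hn
    have : i ∈ sep b' b := ⟨hi, hn⟩
    rw [h] at this; exact this
  have h2 : ∀ i, b.IsPos i → b'.IsPos i := by
    intro i hi
    by_contra hn
    have h3 := (Base.IsPos.neg_iff_not b' i).mpr hn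
    exact (Base.IsPos.neg_iff_not b i).mp (h1 _ h3) hi
  apply base_ext
  ext j
  exact ⟨mem_support_of_isPos_subset h2, mem_support_of_isPos_subset h1⟩

/-- Gallery induction: to prove `Q b'` for all bases `b'`, it suffices to prove `Q b` and that
`Q` propagates backwards along a simple reflection of `b'` in a simple root of `b'` that is not
positive for `b`. -/
theorem base_induction (b : P.Base) {Q : P.Base → Prop} (h0 : Q b)
    (hstep : ∀ (b' : P.Base) (k : ι), k ∈ b'.support → ¬ b.IsPos k → Q (reflect b' k) → Q b') :
    ∀ b', Q b' := by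
  intro b'
  generalize hn : (sep b' b).ncard = n
  induction n using Nat.strong_induction_on generalizing b' with
  | _ n ih =>
    by_cases he : sep b' b = ∅
    · rw [eq_of_sep_eq_empty he]; exact h0
    · obtain ⟨k, hk, hk'⟩ : ∃ k ∈ b'.support, ¬ b.IsPos k := by
        by_contra hcon
        push Not at hcon
        apply he
        have h2 : ∀ i, b'.IsPos i → b.IsPos i := by
          intro i hi
          refine hi.induction_on_add hcon ?_
          intro i j k hk hi hj
          exact hi.add (hcon j hj) hk
        ext i
        simp only [sep, Set.mem_ofPred_eq, Set.mem_empty_iff_false, iff_false, not_and, not_not]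
        exact h2 i
      refine hstep b' k hk hk' (ih _ ?_ _ rfl)
      rw [← hn]
      exact Set.ncard_lt_ncard (sep_reflect_ssubset hk hk') (Set.toFinite _)

end Pos

end Groth.Agent.Lib.Helper6.RCh
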