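import Groth.Agent.Lib.Helper6.RootCh.Solid

/-!
# Semi-stability criteria for complementary convex solids
-/

set_option linter.unusedSectionVars false

namespace Groth.Agent.Lib.Helper6.RCh

open scoped Classical

open RootPairing Module Set RootCh

universe u v w x
variable {ι : Type u} {R : Type v} {M : Type w} {N : Type x}

section Semistable

variable [Field R] [LinearOrder R] [IsStrictOrderedRing R]
  [AddCommGroup M] [Module R M] [AddCommGroup N] [Module R N] [Finite ι]
  {P : RootPairing ι R M N} [P.IsRootSystem] [P.IsCrystallographic] [P.IsReduced]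

/-- S14229 in library form. -/
theorem span_carrier_eq_span_corners (F : Facet P) :
    Submodule.span R F.carrier = Submodule.span R F.corners := by
  obtain ⟨b, hb⟩ := cham_nonempty F
  apply le_antisymm
  · rw [Submodule.span_le]
    exact carrier_subset_span_corners F
  · rw [Submodule.span_le, corners_eq hb]
    rintro _ ⟨j, ⟨hj, hs⟩, rfl⟩
    obtain ⟨ξ, hξ⟩ := F.exists_sgnVec_eq
    have hξ' : ξ ∈ F.carrier := hξ
    have h1 : ξ + fw b j ∈ F.carrier := by
      rw [mem_carrier_iff hb]
      intro l hl
      have h2 := (mem_carrier_iff hb).mp hξ' l hl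
      rw [map_add, LinearMap.add_apply]
      by_cases hjl : j = l
      · subst hjl
        rw [pair_fw_coroot_self hj, hs]
        rw [hs, sign_eq_one_iff] at h2
        rw [sign_eq_one_iff]
        linarith
      · rw [pair_fw_coroot_ne hj hl hjl, add_zero]
        exact h2
    have : fw b j = (ξ + fw b j) - ξ := by abel
    rw [this]
    exact Submodule.sub_mem _ (Submodule.subset_span h1) (Submodule.subset_span hξ')

lemma origin_sgn (i : ι) : (Facet.origin P).sgn i = 0 := by
  change SignType.sign (P.toLinearMap 0 (P.coroot i)) = 0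
  simp

lemma mem_cham_origin (b : P.Base) : b ∈ (Facet.origin P).cham := by
  rw [mem_cham_iff]
  intro j _
  rw [origin_sgn]; decide

lemma corners_origin : (Facet.origin P).corners = ∅ := by
  obtain ⟨b⟩ := P.nonempty_base
  rw [corners_eq (mem_cham_origin b)]
  ext m
  simp only [Set.mem_image, Set.mem_setOf_eq, Set.mem_empty_iff_false, iff_false, not_exists,
    not_and]
  rintro j ⟨_, hs⟩
  rw [origin_sgn] at hs
  exact (zero_ne_one hs).elim

lemma solid_eq_dualSolid_origin (d : P.Base → N) : solid d = dualSolid d (Facet.origin P) := by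
  unfold solid dualSolid
  congr 1
  ext x
  constructor
  · rintro ⟨b, rfl⟩; exact ⟨b, mem_cham_origin b, rfl⟩
  · rintro ⟨b, -, rfl⟩; exact ⟨b, rfl⟩

lemma solid_subset_halfClosed {d : P.Base → N} (hd : IsCCS d) (m : M) :
    solid d ⊆ halfClosed d m := by
  apply convexHull_min _ (convex_halfClosed d m)
  rintro _ ⟨b, rfl⟩
  exact d_mem_halfClosed hd b m

lemma dualSolid_subset_solid (d : P.Base → N) (F : Facet P) : dualSolid d F ⊆ solid d :=
  convexHull_mono (by rintro _ ⟨b, -, rfl⟩; exact ⟨b, rfl⟩)

/-- S14241 in library form. -/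
theorem semistable_iff_corner {d : P.Base → N} (hd : IsCCS d) :
    IsSemistable d ↔ ∀ (b : P.Base), ∀ m ∈ baseCorners b, P.toLinearMap m (d b) ≤ 0 := by
  constructor
  · intro h b m hm
    have := solid_subset_halfClosed hd m h b hm
    change _ ≤ P.toLinearMap m 0 at this
    rwa [map_zero] at this
  · intro h
    change (0 : N) ∈ solid d
    rw [solid_eq_dualSolid_origin, dualSolid_eq hd]
    refine ⟨?_, ?_⟩
    · rw [corners_origin]; simp
    · simp only [Set.mem_iInter]
      intro m _ b hb
      change _ ≤ P.toLinearMap m 0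
      rw [map_zero]
      exact h b m hb

lemma parabSum_mem_closedChamber {F : Facet P} {b : P.Base} (hb : b ∈ F.cham) :
    parabSum F ∈ closedChamber b := hb (parabSum_mem_carrier F)

lemma deg_eq_sum (d : P.Base → N) (F : Facet P) (b : P.Base) :
    F.deg d b = ∑ j ∈ b.support,
      P.toLinearMap (parabSum F) (P.coroot j) * P.toLinearMap (fw b j) (d b) := by
  rw [deg_eq_pair_parabSum]
  conv_lhs => rw [eq_sum_fw b (parabSum F)]
  simp only [map_sum, LinearMap.sum_apply, map_smul, LinearMap.smul_apply, smul_eq_mul]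

lemma fw_mem_baseCorners {b : P.Base} {j : ι} (hj : j ∈ b.support) : fw b j ∈ baseCorners b := by
  rw [baseCorners_eq]; exact ⟨j, hj, rfl⟩

lemma deg_nonpos_of_semistable {d : P.Base → N} (hd : IsCCS d) (h : IsSemistable d)
    {F : Facet P} {b : P.Base} (hb : b ∈ F.cham) : F.deg d b ≤ 0 := by
  rw [deg_eq_sum]
  apply Finset.sum_nonpos
  intro j hj
  exact mul_nonpos_of_nonneg_of_nonpos
    (mem_closedChamber_iff.mp (parabSum_mem_closedChamber hb) j hj)
    ((semistable_iff_corner hd).mp h b _ (fw_mem_baseCorners hj))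

/-- The ray facet through a fundamental weight. -/
lemma deg_stdFacet_singleton (d : P.Base → N) {b : P.Base} {j : ι} (hj : j ∈ b.support) :
    (stdFacet b {j}).deg d b =
      P.toLinearMap (parabSum (stdFacet b {j})) (P.coroot j) * P.toLinearMap (fw b j) (d b) := by
  rw [deg_eq_sum, Finset.sum_eq_single j]
  · intro l hl hne
    rw [pair_parabSum_of_sgn_zero, zero_mul]
    rw [stdFacet_sgn_simple _ hl, if_neg]
    simpa using hne
  · intro h; exact (h hj).elim

lemma pair_parabSum_stdFacet_singleton_pos {b : P.Base} {j : ι} (hj : j ∈ b.support) :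
    0 < P.toLinearMap (parabSum (stdFacet b ({j} : Set ι))) (P.coroot j) := by
  have := two_le_pair_parabSum (mem_cham_stdFacet b ({j} : Set ι)) hj
    (by rw [stdFacet_sgn_simple _ hj, if_pos (Set.mem_singleton j)])
  linarith

lemma fw_ne_zero {b : P.Base} {j : ι} (hj : j ∈ b.support) : fw b j ≠ 0 := by
  intro h
  have := pair_fw_coroot_self hj
  rw [h, map_zero, LinearMap.zero_apply] at this
  exact zero_ne_one this

lemma dim_stdFacet_singleton {b : P.Base} {j : ι} (hj : j ∈ b.support) :
    (stdFacet b ({j} : Set ι)).dim = 1 := by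
  unfold Facet.dim
  rw [span_carrier_eq_span_corners, corners_stdFacet]
  have : fw b '' {l | l ∈ b.support ∧ l ∈ ({j} : Set ι)} = {fw b j} := by
    ext m
    simp only [Set.mem_image, Set.mem_setOf_eq, Set.mem_singleton_iff]
    constructor
    · rintro ⟨l, ⟨-, rfl⟩, rfl⟩; rfl
    · rintro rfl; exact ⟨j, ⟨hj, rfl⟩, rfl⟩
  rw [this]
  exact finrank_span_singleton (fw_ne_zero hj)

/-- If all one-dimensional facets have non-positive degree then `d` is semi-stable. -/
theorem semistable_of_deg_dim_one {d : P.Base → N} (hd : IsCCS d)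
    (h : ∀ (F : Facet P) (b : P.Base), F.dim = 1 → b ∈ F.cham → F.deg d b ≤ 0) :
    IsSemistable d := by
  rw [semistable_iff_corner hd]
  intro b m hm
  rw [baseCorners_eq] at hm
  obtain ⟨j, hj, rfl⟩ := hm
  have h1 := h (stdFacet b ({j} : Set ι)) b (dim_stdFacet_singleton hj) (mem_cham_stdFacet b _)
  rw [deg_stdFacet_singleton d hj] at h1
  by_contra hn
  push Not at hn
  have := mul_pos (pair_parabSum_stdFacet_singleton_pos hj) hn
  linarith

end Semistable

end Groth.Agent.Lib.Helper6.RCh
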