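import Groth.Agent.Lib.Helper6.RootCh.CCS
import Groth.Agent.Lib.Helper6.RootCh.Farkas

/-!
# Complementary convex solids: walls, monotonicity, description of the dual solids
-/

set_option linter.unusedSectionVars false

namespace Groth.Agent.Lib.Helper6.RCh

open scoped Classical

open RootPairing Module Set RootCh

universe u v w x
variable {ι : Type u} {R : Type v} {M : Type w} {N : Type x}

section Solid

variable [Field R] [LinearOrder R] [IsStrictOrderedRing R]
  [AddCommGroup M] [Module R M] [AddCommGroup N] [Module R N] [Finite ι]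
  {P : RootPairing ι R M N} [P.IsRootSystem] [P.IsCrystallographic] [P.IsReduced]

instance finite_base : Finite P.Base :=
  Finite.of_injective (fun b : P.Base => b.support) (fun _ _ h => base_ext h)

lemma fw_reflect_of_ne {b : P.Base} {k j : ι} (hk : k ∈ b.support) (hj : j ∈ b.support)
    (hne : j ≠ k) : fw (reflect b k) (P.reflectionPerm k j) = fw b j := by
  rw [fw_reflect, RootPairing.reflection_apply]
  change _ - P.toLinearMap (fw b j) (P.coroot k) • _ = _
  rw [pair_fw_coroot_ne hj hk hne, zero_smul, sub_zero]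

lemma baseCorners_inter_reflect {b : P.Base} {k : ι} (hk : k ∈ b.support) :
    baseCorners b ∩ baseCorners (reflect b k) = fw b '' {j | j ∈ b.support ∧ j ≠ k} := by
  ext m
  constructor
  · rintro ⟨h1, h2⟩
    rw [baseCorners_eq] at h1 h2
    obtain ⟨j, hj, rfl⟩ := h1
    refine ⟨j, ⟨hj, ?_⟩, rfl⟩
    rintro rfl
    obtain ⟨l', hl', he⟩ := h2
    have hl := mem_reflect_support.mp hl'
    have e1 : l' = P.reflectionPerm j (P.reflectionPerm j l') := (P.reflectionPerm_self j l').symm
    rw [e1, fw_reflect] at he
    by_cases hlk : P.reflectionPerm j l' = j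
    · rw [hlk, RootPairing.reflection_apply] at he
      change _ - P.toLinearMap (fw b j) (P.coroot j) • _ = _ at he
      rw [pair_fw_coroot_self hj, one_smul, sub_eq_self] at he
      exact P.ne_zero j he
    · rw [RootPairing.reflection_apply] at he
      change _ - P.toLinearMap (fw b _) (P.coroot j) • _ = _ at he
      rw [pair_fw_coroot_ne hl hj hlk, zero_smul, sub_zero] at he
      exact hlk (fw_injOn b hl hj he)
  · rintro ⟨j, ⟨hj, hne⟩, rfl⟩
    refine ⟨?_, ?_⟩
    · rw [baseCorners_eq]; exact ⟨j, hj, rfl⟩
    · rw [baseCorners_eq, ← fw_reflect_of_ne hk hj hne]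
      refine ⟨_, ?_, rfl⟩
      rw [Finset.mem_coe, mem_reflect_support, P.reflectionPerm_self]; exact hj

lemma ncard_baseCorners_inter_reflect {b : P.Base} {k : ι} (hk : k ∈ b.support) :
    (baseCorners b ∩ baseCorners (reflect b k)).ncard + 1 = b.support.card := by
  rw [baseCorners_inter_reflect hk, Set.ncard_image_of_injOn]
  · have : {j | j ∈ b.support ∧ j ≠ k} = ((b.support.erase k : Finset ι) : Set ι) := by
      ext j; simp [and_comm]
    rw [this, Set.ncard_coe_finset, Finset.card_erase_add_one hk]
  · intro i hi j hj h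
    exact fw_injOn b hi.1 hj.1 h

lemma isPos_and_not_isPos_reflect_iff {b : P.Base} {k : ι} (hk : k ∈ b.support) (j : ι) :
    (b.IsPos j ∧ ¬ (reflect b k).IsPos j) ↔ j = k := by
  rw [isPos_reflect]
  constructor
  · rintro ⟨h1, h2⟩
    by_contra hne
    exact h2 (h1.reflectionPerm hk hne)
  · rintro rfl
    refine ⟨Base.isPos_of_mem_support hk, ?_⟩
    exact (isPos_ng_iff b j).mp.mt (not_not.mpr (Base.isPos_of_mem_support hk)) |> fun h => by
      intro h'
      exact (isPos_ng_iff b j).mp h' (Base.isPos_of_mem_support hk)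

/-- Crossing a wall: `d` moves by a non-negative multiple of the simple coroot. -/
theorem wall {d : P.Base → N} (hd : IsCCS d) {b : P.Base} {k : ι} (hk : k ∈ b.support) :
    ∃ t : R, 0 ≤ t ∧ d (reflect b k) = d b + t • P.coroot k := by
  set x := d (reflect b k) - d b with hx
  have h0 : ∀ j ∈ b.support, j ≠ k → P.toLinearMap (fw b j) x = 0 := by
    intro j hj hne
    rw [hx, map_sub, sub_eq_zero]
    have hm : fw b j ∈ baseCorners b ∩ baseCorners (reflect b k) := by
      rw [baseCorners_inter_reflect hk]; exact ⟨j, ⟨hj, hne⟩, rfl⟩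
    exact (hd.corner_eq b (reflect b k) (fw b j) hm.1 hm.2).symm
  have hxe : x = P.toLinearMap (fw b k) x • P.coroot k := by
    conv_lhs => rw [eq_sum_coroot b x]
    rw [Finset.sum_eq_single k]
    · intro j hj hne
      rw [h0 j hj hne, zero_smul]
    · intro h; exact (h hk).elim
  have hle := hd.wall_le b (reflect b k) k (ncard_baseCorners_inter_reflect hk)
    (isPos_and_not_isPos_reflect_iff hk)
  have h2 : P.toLinearMap (P.root k) x = 2 * P.toLinearMap (fw b k) x := by
    conv_lhs => rw [hxe]
    rw [map_smul, smul_eq_mul, P.root_coroot_two k, mul_comm]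
  have h3 : 0 ≤ P.toLinearMap (P.root k) x := by
    rw [hx, map_sub]
    exact sub_nonneg.mpr hle
  refine ⟨P.toLinearMap (fw b k) x, by linarith, ?_⟩
  rw [← hxe, hx]; abel

/-- Monotonicity: a dominant vector for `b` pairs least with `d b`. -/
theorem pair_le_pair {d : P.Base → N} (hd : IsCCS d) (b : P.Base) {m : M}
    (hm : m ∈ closedChamber b) : ∀ b' : P.Base, P.toLinearMap m (d b) ≤ P.toLinearMap m (d b') := by
  refine base_induction b le_rfl ?_
  intro b' k hk hkneg ih
  obtain ⟨t, ht, he⟩ := wall hd hk
  have hneg : b.IsPos (ng P k) := (isPos_ng_iff b k).mpr hkneg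
  have h1 := pair_nonneg_of_mem_closedChamber hm hneg
  rw [coroot_ng, map_neg] at h1
  have e : d b' = d (reflect b' k) - t • P.coroot k := by rw [he]; abel
  rw [e, map_sub, map_smul, smul_eq_mul]
  have : t * P.toLinearMap m (P.coroot k) ≤ 0 :=
    mul_nonpos_of_nonneg_of_nonpos ht (by linarith)
  linarith

lemma convex_hyper (d : P.Base → N) (m : M) : Convex R (hyper d m) := by
  intro x hx y hy a c _ _ hac b hb
  change P.toLinearMap m (a • x + c • y) = _
  rw [map_add, map_smul, map_smul, hx b hb, hy b hb, smul_eq_mul, smul_eq_mul, ← add_mul, hac,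
    one_mul]

lemma convex_halfClosed (d : P.Base → N) (m : M) : Convex R (halfClosed d m) := by
  intro x hx y hy a c ha hc hac b hb
  change _ ≤ P.toLinearMap m (a • x + c • y)
  rw [map_add, map_smul, map_smul, smul_eq_mul, smul_eq_mul]
  have h1 := hx b hb
  have h2 := hy b hb
  calc P.toLinearMap m (d b) = a * P.toLinearMap m (d b) + c * P.toLinearMap m (d b) := by
        rw [← add_mul, hac, one_mul]
    _ ≤ a * P.toLinearMap m x + c * P.toLinearMap m y :=
        add_le_add (mul_le_mul_of_nonneg_left h1 ha) (mul_le_mul_of_nonneg_left h2 hc)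

lemma mem_cham_of_mem_carrier {F : Facet P} {ξ : M} (hξ : ξ ∈ F.carrier) {b : P.Base}
    (h : ξ ∈ closedChamber b) : b ∈ F.cham := by
  rw [mem_cham_iff]
  intro j hj
  rw [← (show sgnVec P ξ = F.sgn from hξ), sgnVec_simple, Ne, sign_eq_neg_one_iff]
  exact not_lt.mpr (mem_closedChamber_iff.mp h j hj)

lemma d_mem_hyper {d : P.Base → N} (hd : IsCCS d) {b : P.Base} {m : M}
    (hm : m ∈ baseCorners b) : d b ∈ hyper d m :=
  fun b' hb' => hd.corner_eq b b' m hm hb'

lemma d_mem_halfClosed {d : P.Base → N} (hd : IsCCS d) (b : P.Base) (m : M) :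
    d b ∈ halfClosed d m :=
  fun b' hb' => pair_le_pair hd b' hb'.2 b

/-- S14238 in library form: the dual solid of a facet is cut out by the hyperplanes of its
corners and the closed half-spaces of the corners of its adjacent chambers. -/
theorem dualSolid_eq {d : P.Base → N} (hd : IsCCS d) (F : Facet P) :
    dualSolid d F = (⋂ m ∈ F.corners, hyper d m) ∩ ⋂ m ∈ F.corners', halfClosed d m := by
  apply subset_antisymm
  · apply convexHull_min
    · rintro _ ⟨b, hb, rfl⟩
      refine ⟨?_, ?_⟩
      · simp only [Set.mem_iInter]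
        intro m hm
        exact d_mem_hyper hd (corners_subset_baseCorners hb hm)
      · simp only [Set.mem_iInter]
        intro m _
        exact d_mem_halfClosed hd b m
    · apply Convex.inter
      · exact convex_iInter₂ fun m _ => convex_hyper d m
      · exact convex_iInter₂ fun m _ => convex_halfClosed d m
  · rintro x ⟨hx1, hx2⟩
    simp only [Set.mem_iInter] at hx1 hx2
    by_contra hcon
    have hfin : (d '' F.cham).Finite := (Set.toFinite F.cham).image d
    have hcon' : x ∉ convexHull R ((hfin.toFinset : Finset N) : Set N) := by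
      rw [Set.Finite.coe_toFinset]; exact hcon
    obtain ⟨f, hf⟩ := exists_dual_lt_of_notMem_convexHull hfin.toFinset hcon'
    set μ : M := P.toLinearMap.toPerfPair.symm f with hμ
    have hμf : ∀ y, P.toLinearMap μ y = f y := by
      intro y
      rw [hμ, LinearMap.apply_symm_toPerfPair_self]
    obtain ⟨ξ, hξ⟩ := F.exists_sgnVec_eq
    have hξ' : ξ ∈ F.carrier := hξ
    obtain ⟨b, hξb, hlex⟩ := exists_mem_closedChamber_lex (P := P) ξ μ
    have hb : b ∈ F.cham := mem_cham_of_mem_carrier hξ' hξb
    have hlt : P.toLinearMap μ x < P.toLinearMap μ (d b) := by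
      rw [hμf, hμf]
      exact hf (d b) (by rw [Set.Finite.mem_toFinset]; exact ⟨b, hb, rfl⟩)
    have hge : P.toLinearMap μ (d b) ≤ P.toLinearMap μ x := by
      rw [eq_sum_fw b μ]
      simp only [map_sum, LinearMap.sum_apply, map_smul, LinearMap.smul_apply, smul_eq_mul]
      apply Finset.sum_le_sum
      intro j hj
      have hbc : fw b j ∈ baseCorners b := by rw [baseCorners_eq]; exact ⟨j, hj, rfl⟩
      by_cases hs : F.sgn j = 1
      · have hc : fw b j ∈ F.corners := by rw [corners_eq hb]; exact ⟨j, ⟨hj, hs⟩, rfl⟩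
        have := hx1 (fw b j) hc b hbc
        change P.toLinearMap (fw b j) x = _ at this
        rw [this]
      · have h0 := sgn_eq_zero_of_ne_one hb hj hs
        have ha := (mem_carrier_iff hb).mp hξ' j hj
        rw [h0, sign_eq_zero_iff] at ha
        have hpos := hlex j hj ha
        have hc' : fw b j ∈ F.corners' := by
          simp only [Facet.corners', Set.mem_iUnion]
          exact ⟨b, hb, hbc⟩
        have := hx2 (fw b j) hc' b hbc
        change _ ≤ P.toLinearMap (fw b j) x at this
        exact mul_le_mul_of_nonneg_left this hpos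
    exact absurd hge (not_le.mpr hlt)

end Solid

end Groth.Agent.Lib.Helper6.RCh
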