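import Groth.Agent.Lib.Helper6.RootCh.Semistable

/-!
# The point `y(F)` of a facet and special facets
-/

set_option linter.unusedSectionVars false

namespace Groth.Agent.Lib.Helper6.RCh

open scoped Classical

open RootPairing Module Set RootCh

universe u v w x
variable {ι : Type u} {R : Type v} {M : Type w} {N : Type x}

section Special

variable [Field R] [LinearOrder R] [IsStrictOrderedRing R]
  [AddCommGroup M] [Module R M] [AddCommGroup N] [Module R N] [Finite ι]
  {P : RootPairing ι R M N} [P.IsRootSystem] [P.IsCrystallographic] [P.IsReduced]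

lemma finite_M (P : RootPairing ι R M N) [P.IsRootSystem] [P.IsCrystallographic] [P.IsReduced] :
    Module.Finite R M := by
  obtain ⟨b⟩ := P.nonempty_base
  exact Module.Finite.of_basis b.toWeightBasis

lemma mem_span_dualCarrier_iff {F : Facet P} {b : P.Base} (hb : b ∈ F.cham) {x : N} :
    x ∈ Submodule.span R F.dualCarrier ↔
      ∀ l ∈ b.support, F.sgn l = 0 → P.toLinearMap (P.root l) x = 0 := by
  rw [← flipFacet_carrier, span_carrier_eq_span_corners,
    mem_span_corners_iff (flip_mem_cham_flipFacet hb)]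
  rfl

lemma pair_root_eq_zero_of_mem_span_dualCarrier {F : Facet P} {x : N}
    (hx : x ∈ Submodule.span R F.dualCarrier) {i : ι} (hi : F.sgn i = 0) :
    P.toLinearMap (P.root i) x = 0 := by
  induction hx using Submodule.span_induction with
  | mem x hx =>
    have : cosgnVec P x i = F.sgn i := congrFun hx i
    rw [hi] at this
    exact sign_eq_zero_iff.mp this
  | zero => simp
  | add x y _ _ hx hy => rw [map_add, hx, hy, add_zero]
  | smul a x _ hx => rw [map_smul, hx, smul_zero]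

lemma mem_iInter_hyper_iff {d : P.Base → N} (hd : IsCCS d) {F : Facet P} {b : P.Base}
    (hb : b ∈ F.cham) {x : N} :
    x ∈ ⋂ m ∈ F.corners, hyper d m ↔
      ∀ m ∈ F.corners, P.toLinearMap m x = P.toLinearMap m (d b) := by
  simp only [Set.mem_iInter]
  constructor
  · intro h m hm
    exact h m hm b (corners_subset_baseCorners hb hm)
  · intro h m hm b' hb'
    change P.toLinearMap m x = _
    rw [h m hm]
    exact hd.corner_eq b b' m (corners_subset_baseCorners hb hm) hb'

lemma pair_eq_of_mem_iInter_hyper {d : P.Base → N} (hd : IsCCS d) {F : Facet P} {b : P.Base}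
    (hb : b ∈ F.cham) {x : N} (hx : x ∈ ⋂ m ∈ F.corners, hyper d m) {ξ : M}
    (hξ : ξ ∈ Submodule.span R F.corners) :
    P.toLinearMap ξ x = P.toLinearMap ξ (d b) := by
  have h := (mem_iInter_hyper_iff hd hb).mp hx
  induction hξ using Submodule.span_induction with
  | mem m hm => exact h m hm
  | zero => simp
  | add x y _ _ hx hy => rw [map_add, LinearMap.add_apply, LinearMap.add_apply, hx, hy]
  | smul a x _ hx => rw [map_smul, LinearMap.smul_apply, LinearMap.smul_apply, hx]

lemma dualSolid_subset_iInter_hyper {d : P.Base → N} (hd : IsCCS d) (F : Facet P) :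
    dualSolid d F ⊆ ⋂ m ∈ F.corners, hyper d m := by
  rw [dualSolid_eq hd]; exact Set.inter_subset_left

/-- `pol.symm` of an element of the span of the dual facet lies in the span of the corners. -/
lemma pol_symm_mem_span_corners {F : Facet P} {z : N}
    (hz : z ∈ Submodule.span R F.dualCarrier) :
    (pol P).symm z ∈ Submodule.span R F.corners := by
  obtain ⟨b, hb⟩ := cham_nonempty F
  rw [mem_span_corners_iff hb]
  intro l hl h0
  have h1 := pair_root_pol P l ((pol P).symm z)
  rw [LinearEquiv.apply_symm_apply, (mem_span_dualCarrier_iff hb).mp hz l hl h0] at h1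
  exact (mul_eq_zero.mp h1.symm).resolve_left (len_pos P l).ne'

lemma pol_mem_span_dualCarrier {F : Facet P} {ζ : M}
    (hζ : ζ ∈ Submodule.span R F.corners) :
    pol P ζ ∈ Submodule.span R F.dualCarrier := by
  obtain ⟨b, hb⟩ := cham_nonempty F
  rw [mem_span_dualCarrier_iff hb]
  intro l hl h0
  rw [pair_root_pol, (mem_span_corners_iff hb).mp hζ l hl h0, mul_zero]

theorem yLocus_subsingleton {d : P.Base → N} (hd : IsCCS d) (F : Facet P) :
    (yLocus d F).Subsingleton := by
  obtain ⟨b, hb⟩ := cham_nonempty F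
  rintro y ⟨hy1, hy2⟩ y' ⟨hy1', hy2'⟩
  set z := y - y' with hz
  have hzs : z ∈ Submodule.span R F.dualCarrier := Submodule.sub_mem _ hy2 hy2'
  set ζ := (pol P).symm z with hζ
  have hζs := pol_symm_mem_span_corners hzs
  have h1 : P.toLinearMap ζ z = 0 := by
    rw [hz, map_sub, pair_eq_of_mem_iInter_hyper hd hb hy1 hζs,
      pair_eq_of_mem_iInter_hyper hd hb hy1' hζs, sub_self]
  have h2 : ζ = 0 := by
    by_contra hne
    have := pair_pol_self_pos P hne
    rw [hζ, LinearEquiv.apply_symm_apply] at this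
    rw [hζ] at h1
    linarith
  have h3 : z = 0 := by
    have := congrArg (pol P) h2
    rwa [hζ, LinearEquiv.apply_symm_apply, map_zero] at this
  exact sub_eq_zero.mp h3

theorem yLocus_nonempty {d : P.Base → N} (hd : IsCCS d) (F : Facet P) :
    (yLocus d F).Nonempty := by
  obtain ⟨b, hb⟩ := cham_nonempty F
  have : Module.Finite R M := finite_M P
  set V : Submodule R M := Submodule.span R F.corners with hV
  let Ψ₀ : M →ₗ[R] Module.Dual R M := P.toLinearMap.flip ∘ₗ (pol P).toLinearMap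
  let Φ : V →ₗ[R] Module.Dual R V := V.subtype.dualMap ∘ₗ Ψ₀ ∘ₗ V.subtype
  have hΦ : ∀ ζ η : V, Φ ζ η = P.toLinearMap (η : M) (pol P (ζ : M)) := fun ζ η => rfl
  have hinj : Function.Injective Φ := by
    rw [← LinearMap.ker_eq_bot, LinearMap.ker_eq_bot']
    intro ζ h
    by_contra hne
    have hne' : (ζ : M) ≠ 0 := fun h' => hne (Subtype.ext h')
    have := pair_pol_self_pos P hne'
    rw [← hΦ, h] at this
    simp at this
  have hsurj : Function.Surjective Φ :=
    (LinearMap.injective_iff_surjective_of_finrank_eq_finrank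
      (Subspace.dual_finrank_eq (K := R) (V := V)).symm).mp hinj
  obtain ⟨ζ, hζ⟩ := hsurj (V.subtype.dualMap (P.toLinearMap.flip (d b)))
  refine ⟨pol P (ζ : M), ?_, pol_mem_span_dualCarrier ζ.2⟩
  rw [mem_iInter_hyper_iff hd hb]
  intro m hm
  have := congrArg (fun φ => φ ⟨m, Submodule.subset_span hm⟩) hζ
  exact this

/-- A point of `F̌ ∩ F(F)` lies in the locus `yLocus`. -/
lemma mem_yLocus_of_mem_inter {d : P.Base → N} (hd : IsCCS d) {F : Facet P} {y : N}
    (hy1 : y ∈ F.dualCarrier) (hy2 : y ∈ dualSolid d F) : y ∈ yLocus d F :=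
  ⟨dualSolid_subset_iInter_hyper hd F hy2, Submodule.subset_span hy1⟩

lemma yLocus_eq_singleton {d : P.Base → N} (hd : IsCCS d) {F : Facet P} {y : N}
    (hy : y ∈ yLocus d F) : yLocus d F = {y} := by
  ext z
  constructor
  · intro hz; exact yLocus_subsingleton hd F hz hy
  · rintro rfl; exact hy

/-- S14251 in library form. -/
theorem exists_yLocus_eq_of_isSpecial {d : P.Base → N} (hd : IsCCS d) {F : Facet P}
    (hF : IsSpecial d F) :
    ∃ y₀ : N, yLocus d F = {y₀} ∧ F.dualCarrier ∩ dualSolid d F = {y₀} := by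
  obtain ⟨y₀, hy1, hy2⟩ := hF
  have hy := mem_yLocus_of_mem_inter hd hy1 hy2
  refine ⟨y₀, yLocus_eq_singleton hd hy, ?_⟩
  ext z
  constructor
  · rintro ⟨hz1, hz2⟩
    exact yLocus_subsingleton hd F (mem_yLocus_of_mem_inter hd hz1 hz2) hy
  · rintro rfl; exact ⟨hy1, hy2⟩

lemma root_coeff_nonpos {b : P.Base} {i : ι} (hi : ¬ b.IsPos i) (l : ι) :
    P.toLinearMap (P.root i) (fcw b l) ≤ 0 := by
  have := root_coeff_nonneg ((isPos_ng_iff b i).mpr hi) l
  rw [root_ng, map_neg, LinearMap.neg_apply] at this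
  linarith

lemma sgn_eq_one_of_mem_Psi {F : Facet P} {b : P.Base} (hb : b ∈ F.cham) {j₀ : ι}
    (hj₀ : j₀ ∈ b.support) (hs : F.sgn j₀ = 1) {i : ι} (hi : i ∈ F.Psi (fw b j₀)) :
    F.sgn i = 1 := by
  rw [mem_Psi_iff hb hj₀ hs] at hi
  have hpos : b.IsPos i := by
    by_contra hn
    have := root_coeff_nonpos hn j₀
    rw [hi.1] at this
    linarith
  have hnz : ¬ ∀ l ∈ b.support, P.toLinearMap (P.root i) (fcw b l) ≠ 0 → l ∈ {l | F.sgn l = 0} := by
    intro h
    have := h j₀ hj₀ (by rw [hi.1]; exact one_ne_zero)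
    rw [Set.mem_setOf_eq, hs] at this
    exact one_ne_zero this
  rw [sgn_eq_stdSgn hb, stdSgn_of_not hnz, if_pos hpos]

lemma pair_root_of_mem_Psi {F : Facet P} {b : P.Base} (hb : b ∈ F.cham) {j₀ : ι}
    (hj₀ : j₀ ∈ b.support) (hs : F.sgn j₀ = 1) {i : ι} (hi : i ∈ F.Psi (fw b j₀)) {y : N}
    (hy : y ∈ Submodule.span R F.dualCarrier) :
    P.toLinearMap (P.root i) y = P.toLinearMap (P.root j₀) y := by
  rw [mem_Psi_iff hb hj₀ hs] at hi
  rw [pair_root_eq_sum b y i, Finset.sum_eq_single j₀]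
  · rw [hi.1, one_mul]
  · intro l hl hne
    by_cases hsl : F.sgn l = 1
    · rw [hi.2 l hl hsl hne, zero_mul]
    · rw [(mem_span_dualCarrier_iff hb).mp hy l hl (sgn_eq_zero_of_ne_one hb hl hsl), mul_zero]
  · intro h; exact (h hj₀).elim

lemma self_mem_Psi {F : Facet P} {b : P.Base} (hb : b ∈ F.cham) {j₀ : ι}
    (hj₀ : j₀ ∈ b.support) (hs : F.sgn j₀ = 1) : j₀ ∈ F.Psi (fw b j₀) := by
  rw [mem_Psi_iff hb hj₀ hs]
  refine ⟨pair_root_fcw_self hj₀, ?_⟩
  intro j hj _ hne
  exact pair_root_fcw_ne hj hj₀ hne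

/-- The numerical invariant in terms of a point of the locus `yLocus`. -/
lemma numInv_eq_card_smul {d : P.Base → N} (hd : IsCCS d) {F : Facet P} {b : P.Base}
    (hb : b ∈ F.cham) {j₀ : ι} (hj₀ : j₀ ∈ b.support) (hs : F.sgn j₀ = 1) {y : N}
    (hy1 : y ∈ ⋂ m ∈ F.corners, hyper d m) (hy2 : y ∈ Submodule.span R F.dualCarrier) :
    F.numInv d (fw b j₀) b =
      ((Set.toFinite (F.Psi (fw b j₀))).toFinset.card : R) * P.toLinearMap (P.root j₀) y := by
  have hm : fw b j₀ ∈ F.corners := by rw [corners_eq hb]; exact ⟨j₀, ⟨hj₀, hs⟩, rfl⟩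
  rw [numInv_eq_pair_psiSum, ← pair_eq_of_mem_iInter_hyper hd hb hy1 (psiSum_mem_span_corners F hm)]
  unfold psiSum
  rw [map_sum, LinearMap.sum_apply]
  rw [Finset.sum_congr rfl (fun i hi => pair_root_of_mem_Psi hb hj₀ hs
    ((Set.Finite.mem_toFinset _).mp hi) hy2)]
  rw [Finset.sum_const, nsmul_eq_mul]

lemma card_Psi_pos {F : Facet P} {b : P.Base} (hb : b ∈ F.cham) {j₀ : ι}
    (hj₀ : j₀ ∈ b.support) (hs : F.sgn j₀ = 1) :
    (0 : R) < ((Set.toFinite (F.Psi (fw b j₀))).toFinset.card : R) := by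
  rw [Nat.cast_pos, Finset.card_pos]
  exact ⟨j₀, (Set.Finite.mem_toFinset _).mpr (self_mem_Psi hb hj₀ hs)⟩

/-- S14243 in library form. -/
theorem isSpecial_iff {d : P.Base → N} (hd : IsCCS d) (F : Facet P) :
    ((∀ m ∈ F.corners, ∀ b ∈ F.cham, 0 < F.numInv d m b) ∧
        (dualSolid d F ∩ (Submodule.span R F.dualCarrier : Set N)).Nonempty) ↔
      IsSpecial d F := by
  constructor
  · rintro ⟨hnum, y, hy1, hy2⟩
    obtain ⟨b, hb⟩ := cham_nonempty F
    refine ⟨y, ?_, hy1⟩
    rw [mem_dualCarrier_iff hb]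
    intro j hj
    by_cases hs : F.sgn j = 1
    · rw [hs, sign_eq_one_iff]
      have hm : fw b j ∈ F.corners := by rw [corners_eq hb]; exact ⟨j, ⟨hj, hs⟩, rfl⟩
      have h1 := hnum _ hm b hb
      rw [numInv_eq_card_smul hd hb hj hs (dualSolid_subset_iInter_hyper hd F hy1) hy2] at h1
      exact (pos_iff_pos_of_mul_pos h1).mp (card_Psi_pos hb hj hs)
    · have h0 := sgn_eq_zero_of_ne_one hb hj hs
      rw [h0, sign_eq_zero_iff]
      exact (mem_span_dualCarrier_iff hb).mp hy2 j hj h0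
  · rintro ⟨y, hy1, hy2⟩
    refine ⟨?_, y, hy2, Submodule.subset_span hy1⟩
    intro m hm b hb
    rw [corners_eq hb] at hm
    obtain ⟨j, ⟨hj, hs⟩, rfl⟩ := hm
    rw [numInv_eq_card_smul hd hb hj hs (dualSolid_subset_iInter_hyper hd F hy2)
      (Submodule.subset_span hy1)]
    apply mul_pos (card_Psi_pos hb hj hs)
    have := (mem_dualCarrier_iff hb).mp hy1 j hj
    rw [hs, sign_eq_one_iff] at this
    exact this

end Special

end Groth.Agent.Lib.Helper6.RCh
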