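import Groth.Agent.Lib.Helper6.RootCh.Dual

/-!
# Sums of roots over reflection-stable sets; the sum of the roots of a parabolic set
-/

set_option linter.unusedSectionVars false

namespace Groth.Agent.Lib.Helper6.RCh

open scoped Classical

open RootPairing Module Set RootCh

universe u v w x
variable {ι : Type u} {R : Type v} {M : Type w} {N : Type x}

section Sums

variable [Field R] [LinearOrder R] [IsStrictOrderedRing R]
  [AddCommGroup M] [Module R M] [AddCommGroup N] [Module R N] [Finite ι]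
  {P : RootPairing ι R M N} [P.IsRootSystem] [P.IsCrystallographic] [P.IsReduced]

/-- The sum of the roots over a set stable under the reflection `s_j` pairs to zero with the
coroot `j`. -/
lemma pair_sum_eq_zero_of_stable {A : Finset ι} {j : ι}
    (h : ∀ i, i ∈ A → P.reflectionPerm j i ∈ A) :
    P.toLinearMap (∑ i ∈ A, P.root i) (P.coroot j) = 0 := by
  set σ := ∑ i ∈ A, P.root i with hσ
  have h1 : P.reflection j σ = σ := by
    rw [hσ, map_sum]
    refine Finset.sum_nbij' (fun i => P.reflectionPerm j i) (fun i => P.reflectionPerm j i)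
      (fun i hi => h i hi) (fun i hi => h i hi) (fun i _ => P.reflectionPerm_self j i)
      (fun i _ => P.reflectionPerm_self j i) (fun i _ => ?_)
    rw [root_reflectionPerm]
  rw [RootPairing.reflection_apply, sub_eq_self, smul_eq_zero] at h1
  exact h1.resolve_right (P.ne_zero j)

/-- The signs of a facet are invariant under the reflection in a root on which it vanishes. -/
lemma sgn_reflectionPerm_of_sgn_eq_zero (F : Facet P) {j : ι} (hj : F.sgn j = 0) (i : ι) :
    F.sgn (P.reflectionPerm j i) = F.sgn i := by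
  obtain ⟨ξ, hξ⟩ := F.exists_sgnVec_eq
  have h0 : P.toLinearMap ξ (P.coroot j) = 0 := by
    rw [← hξ] at hj
    change SignType.sign (P.toLinearMap ξ (P.coroot j)) = 0 at hj
    exact sign_eq_zero_iff.mp hj
  rw [← hξ]
  change SignType.sign (P.toLinearMap ξ (P.coroot (P.reflectionPerm j i))) =
    SignType.sign (P.toLinearMap ξ (P.coroot i))
  rw [coroot_reflectionPerm, RootPairing.coreflection_apply, map_sub, map_smul, h0, smul_zero,
    sub_zero]

lemma pair_root_reflectionPerm_fcw {b : P.Base} {l j : ι} (hl : l ∈ b.support)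
    (hj : j ∈ b.support) (hne : j ≠ l) (i : ι) :
    P.toLinearMap (P.root (P.reflectionPerm l i)) (fcw b j) = P.toLinearMap (P.root i) (fcw b j) := by
  rw [root_reflectionPerm, RootPairing.reflection_apply, map_sub, LinearMap.sub_apply, map_smul,
    LinearMap.smul_apply, pair_root_fcw_ne hj hl hne, smul_zero, sub_zero]

/-- The positive roots other than the simple root `j` are permuted by `s_j`. -/
lemma pos_ne_stable {b : P.Base} {j : ι} (hj : j ∈ b.support) {i : ι}
    (hi : b.IsPos i ∧ i ≠ j) : b.IsPos (P.reflectionPerm j i) ∧ P.reflectionPerm j i ≠ j := by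
  refine ⟨hi.1.reflectionPerm hj hi.2, ?_⟩
  intro h
  have : i = ng P j := by
    have := congrArg (P.reflectionPerm j) h
    rwa [P.reflectionPerm_self] at this
  rw [this] at hi
  exact (isPos_ng_iff b j).mp hi.1 (Base.isPos_of_mem_support hj)

/-- `⟨2ρ, α̌_j⟩ = 2` for a simple root `j`. -/
lemma pair_sum_pos (b : P.Base) {j : ι} (hj : j ∈ b.support) :
    P.toLinearMap (∑ i ∈ (Set.toFinite {i | b.IsPos i}).toFinset, P.root i) (P.coroot j) = 2 := by
  have hjm : j ∈ (Set.toFinite {i | b.IsPos i}).toFinset := by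
    simp [Base.isPos_of_mem_support hj]
  rw [← Finset.add_sum_erase _ _ hjm, map_add, LinearMap.add_apply,
    pair_sum_eq_zero_of_stable, add_zero]
  · exact P.root_coroot_two j
  · intro i hi
    simp only [Finset.mem_erase, Set.Finite.mem_toFinset, Set.mem_setOf_eq] at hi ⊢
    have := pos_ne_stable hj ⟨hi.2, hi.1⟩
    exact ⟨this.2, this.1⟩

/-- Simple roots pair non-positively. -/
lemma pairing_simple_nonpos {b : P.Base} {l j : ι} (hl : l ∈ b.support) (hj : j ∈ b.support)
    (hne : l ≠ j) : P.pairing l j ≤ 0 := by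
  have h := b.pairingIn_le_zero_of_ne hne hl hj
  rw [← P.algebraMap_pairingIn ℤ]
  simpa using h

lemma sgn_ne_neg_one_of_isPos {F : Facet P} {b : P.Base} (hb : b ∈ F.cham) {i : ι}
    (hi : b.IsPos i) : F.sgn i ≠ -1 := by
  rw [sgn_eq_stdSgn hb]
  unfold stdSgn
  split_ifs <;> decide

lemma sgn_ne_one_of_not_isPos {F : Facet P} {b : P.Base} (hb : b ∈ F.cham) {i : ι}
    (hi : ¬ b.IsPos i) : F.sgn i ≠ 1 := by
  rw [sgn_eq_stdSgn hb]
  unfold stdSgn
  split_ifs <;> decide

lemma mem_parab_iff {F : Facet P} {b : P.Base} (hb : b ∈ F.cham) {i : ι} :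
    i ∈ F.parab ↔ b.IsPos i ∨ (¬ b.IsPos i ∧ F.sgn i = 0) := by
  change F.sgn i ≠ -1 ↔ _
  constructor
  · intro h
    by_cases hi : b.IsPos i
    · left; exact hi
    · right
      refine ⟨hi, ?_⟩
      have := sgn_ne_one_of_not_isPos hb hi
      revert h this
      cases F.sgn i <;> decide
  · rintro (h | ⟨-, h⟩)
    · exact sgn_ne_neg_one_of_isPos hb h
    · rw [h]; decide

/-- The sum of the roots of the parabolic set of a facet. -/
noncomputable def parabSum (F : Facet P) : M := ∑ i ∈ (Set.toFinite F.parab).toFinset, P.root i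

lemma pair_parabSum_of_sgn_zero (F : Facet P) {j : ι} (h0 : F.sgn j = 0) :
    P.toLinearMap (parabSum F) (P.coroot j) = 0 := by
  apply pair_sum_eq_zero_of_stable
  intro i hi
  simp only [Set.Finite.mem_toFinset] at hi ⊢
  change F.sgn _ ≠ -1
  rw [sgn_reflectionPerm_of_sgn_eq_zero F h0]
  exact hi

lemma pair_nonneg_of_neg_of_sgn_zero {F : Facet P} {b : P.Base} (hb : b ∈ F.cham) {j : ι}
    (hj : j ∈ b.support) (h1 : F.sgn j = 1) {i : ι} (hi : ¬ b.IsPos i) (hi0 : F.sgn i = 0) :
    0 ≤ P.toLinearMap (P.root i) (P.coroot j) := by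
  have hz : ∀ l ∈ b.support, P.toLinearMap (P.root i) (fcw b l) ≠ 0 → F.sgn l = 0 := by
    have := hi0
    rw [sgn_eq_stdSgn hb, stdSgn_eq_zero_iff] at this
    exact this
  have hneg : ∀ l, P.toLinearMap (P.root i) (fcw b l) ≤ 0 := by
    intro l
    have := root_coeff_nonneg ((isPos_ng_iff b i).mpr hi) l
    rw [root_ng, map_neg, LinearMap.neg_apply] at this
    linarith
  conv_rhs => rw [eq_sum_root b (P.root i)]
  rw [map_sum, LinearMap.sum_apply]
  apply Finset.sum_nonneg
  intro l hl
  rw [map_smul, LinearMap.smul_apply, smul_eq_mul]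
  by_cases hlj : l = j
  · subst hlj
    have : P.toLinearMap (P.root i) (fcw b l) = 0 := by
      by_contra hne
      have := hz l hl hne
      rw [h1] at this
      exact one_ne_zero this
    rw [this, zero_mul]
  · exact mul_nonneg_of_nonpos_of_nonpos (hneg l) (pairing_simple_nonpos hl hj hlj)

lemma two_le_pair_parabSum {F : Facet P} {b : P.Base} (hb : b ∈ F.cham) {j : ι}
    (hj : j ∈ b.support) (h1 : F.sgn j = 1) :
    2 ≤ P.toLinearMap (parabSum F) (P.coroot j) := by
  have hdec : (Set.toFinite F.parab).toFinset =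
      (Set.toFinite {i | b.IsPos i}).toFinset ∪
        (Set.toFinite {i | ¬ b.IsPos i ∧ F.sgn i = 0}).toFinset := by
    ext i
    simp only [Set.Finite.mem_toFinset, Finset.mem_union, Set.mem_setOf_eq]
    exact mem_parab_iff hb
  have hdisj : Disjoint (Set.toFinite {i | b.IsPos i}).toFinset
      (Set.toFinite {i | ¬ b.IsPos i ∧ F.sgn i = 0}).toFinset := by
    rw [Finset.disjoint_left]
    intro i hi hi'
    simp only [Set.Finite.mem_toFinset, Set.mem_setOf_eq] at hi hi'
    exact hi'.1 hi
  unfold parabSum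
  rw [hdec, Finset.sum_union hdisj, map_add, LinearMap.add_apply, pair_sum_pos b hj, map_sum,
    LinearMap.sum_apply]
  have : 0 ≤ ∑ i ∈ (Set.toFinite {i | ¬ b.IsPos i ∧ F.sgn i = 0}).toFinset,
      P.toLinearMap (P.root i) (P.coroot j) := by
    apply Finset.sum_nonneg
    intro i hi
    simp only [Set.Finite.mem_toFinset, Set.mem_setOf_eq] at hi
    exact pair_nonneg_of_neg_of_sgn_zero hb hj h1 hi.1 hi.2
  linarith

/-- S14237 in library form: the sum of the roots of the parabolic set of `F` lies in `F`. -/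
theorem parabSum_mem_carrier (F : Facet P) : parabSum F ∈ F.carrier := by
  obtain ⟨b, hb⟩ := cham_nonempty F
  rw [mem_carrier_iff hb]
  intro j hj
  by_cases h : F.sgn j = 1
  · rw [h, sign_eq_one_iff]
    have := two_le_pair_parabSum hb hj h
    linarith
  · have h0 : F.sgn j = 0 := by
      have := (sgn_ne_zero_iff_of_mem_cham hb hj).not.mpr h
      simpa using this
    rw [h0, sign_eq_zero_iff]
    exact pair_parabSum_of_sgn_zero F h0

lemma sgn_eq_zero_of_ne_one {F : Facet P} {b : P.Base} (hb : b ∈ F.cham) {j : ι}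
    (hj : j ∈ b.support) (h : F.sgn j ≠ 1) : F.sgn j = 0 := by
  have := (sgn_ne_zero_iff_of_mem_cham hb hj).not.mpr h
  simpa using this

lemma mem_span_corners_iff {F : Facet P} {b : P.Base} (hb : b ∈ F.cham) {ξ : M} :
    ξ ∈ Submodule.span R F.corners ↔
      ∀ l ∈ b.support, F.sgn l = 0 → P.toLinearMap ξ (P.coroot l) = 0 := by
  constructor
  · intro hξ
    induction hξ using Submodule.span_induction with
    | mem x hx =>
      rw [corners_eq hb] at hx
      obtain ⟨j, ⟨hj, hs⟩, rfl⟩ := hx
      intro l hl h0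
      have hne : j ≠ l := by rintro rfl; rw [hs] at h0; exact one_ne_zero h0
      exact pair_fw_coroot_ne hj hl hne
    | zero => intro l _ _; simp
    | add x y _ _ hx hy =>
      intro l hl h0
      rw [map_add, LinearMap.add_apply, hx l hl h0, hy l hl h0, add_zero]
    | smul a x _ hx =>
      intro l hl h0
      rw [map_smul, LinearMap.smul_apply, hx l hl h0, smul_zero]
  · intro h
    rw [eq_sum_fw b ξ]
    apply Submodule.sum_mem
    intro j hj
    by_cases hs : F.sgn j = 1
    · exact Submodule.smul_mem _ _ (Submodule.subset_span (by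
        rw [corners_eq hb]; exact ⟨j, ⟨hj, hs⟩, rfl⟩))
    · rw [h j hj (sgn_eq_zero_of_ne_one hb hj hs), zero_smul]
      exact zero_mem _

lemma mem_Psi_iff {F : Facet P} {b : P.Base} (hb : b ∈ F.cham) {j₀ : ι} (hj₀ : j₀ ∈ b.support)
    (hs : F.sgn j₀ = 1) {i : ι} :
    i ∈ F.Psi (fw b j₀) ↔ P.toLinearMap (P.root i) (fcw b j₀) = 1 ∧
      ∀ j ∈ b.support, F.sgn j = 1 → j ≠ j₀ → P.toLinearMap (P.root i) (fcw b j) = 0 := by
  constructor
  · rintro ⟨h1, h2⟩
    refine ⟨h1 _ ((corr_fw_iff hj₀).mpr rfl), ?_⟩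
    intro j hj hsj hne
    refine h2 (fw b j) ?_ ?_ _ ((corr_fw_iff hj).mpr rfl)
    · rw [corners_eq hb]; exact ⟨j, ⟨hj, hsj⟩, rfl⟩
    · intro he; exact hne (fw_injOn b hj hj₀ he)
  · rintro ⟨h1, h2⟩
    refine ⟨?_, ?_⟩
    · intro x hx
      rw [(corr_fw_iff hj₀).mp hx]; exact h1
    · intro w' hw' hne x hx
      rw [corners_eq hb] at hw'
      obtain ⟨j, ⟨hj, hsj⟩, rfl⟩ := hw'
      rw [(corr_fw_iff hj).mp hx]
      exact h2 j hj hsj (fun he => hne (by rw [he]))

/-- The sum of the roots of the elementary set `Ψ(F, m)`. -/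
noncomputable def psiSum (F : Facet P) (m : M) : M :=
  ∑ i ∈ (Set.toFinite (F.Psi m)).toFinset, P.root i

/-- S14242 in library form. -/
theorem psiSum_mem_span_corners (F : Facet P) {m : M} (hm : m ∈ F.corners) :
    psiSum F m ∈ Submodule.span R F.corners := by
  obtain ⟨b, hb⟩ := cham_nonempty F
  rw [corners_eq hb] at hm
  obtain ⟨j₀, ⟨hj₀, hs⟩, rfl⟩ := hm
  rw [mem_span_corners_iff hb]
  intro l hl h0
  apply pair_sum_eq_zero_of_stable
  intro i hi
  simp only [Set.Finite.mem_toFinset] at hi ⊢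
  rw [mem_Psi_iff hb hj₀ hs] at hi ⊢
  have hne₀ : j₀ ≠ l := by rintro rfl; rw [hs] at h0; exact one_ne_zero h0
  refine ⟨?_, ?_⟩
  · rw [pair_root_reflectionPerm_fcw hl hj₀ hne₀]; exact hi.1
  · intro j hj hsj hne
    have hnel : j ≠ l := by rintro rfl; rw [hsj] at h0; exact one_ne_zero h0
    rw [pair_root_reflectionPerm_fcw hl hj hnel]
    exact hi.2 j hj hsj hne

end Sums

end Groth.Agent.Lib.Helper6.RCh
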