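import Groth.Agent.Lib.Helper6.RootCh.Reflect

/-!
# Fundamental weights and coweights of a base: pairing, expansions, behaviour under reflection
-/

namespace Groth.Agent.Lib.Helper6.RCh

open RootPairing Module Set RootCh

universe u v w x
variable {ι : Type u} {R : Type v} {M : Type w} {N : Type x}

section Weights

variable [Field R] [AddCommGroup M] [Module R M] [AddCommGroup N] [Module R N]
  {P : RootPairing ι R M N} [P.IsRootSystem]

open Classical in
/-- Total version of `fundWeight`. -/
noncomputable def fw (b : P.Base) (j : ι) : M :=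
  if h : j ∈ b.support then fundWeight b ⟨j, h⟩ else 0

open Classical in
/-- Total version of `fundCoweight`. -/
noncomputable def fcw (b : P.Base) (j : ι) : N :=
  if h : j ∈ b.support then fundCoweight b ⟨j, h⟩ else 0

lemma fw_of_mem {b : P.Base} {j : ι} (h : j ∈ b.support) : fw b j = fundWeight b ⟨j, h⟩ := by
  simp [fw, h]

lemma fcw_of_mem {b : P.Base} {j : ι} (h : j ∈ b.support) : fcw b j = fundCoweight b ⟨j, h⟩ := by
  simp [fcw, h]

lemma fw_of_notMem {b : P.Base} {j : ι} (h : j ∉ b.support) : fw b j = 0 := by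
  simp [fw, h]

lemma fcw_of_notMem {b : P.Base} {j : ι} (h : j ∉ b.support) : fcw b j = 0 := by
  simp [fcw, h]

lemma fcw_eq_fw_flip (b : P.Base) (j : ι) : fcw b j = fw (P := P.flip) b.flip j := rfl

lemma pair_fw_coroot [DecidableEq ι] {b : P.Base} {i j : ι} (hi : i ∈ b.support)
    (hj : j ∈ b.support) :
    P.toLinearMap (fw b i) (P.coroot j) = if i = j then 1 else 0 := by
  rw [fw_of_mem hi]
  split_ifs with h
  · subst h
    exact coroot'_fundWeight_self b ⟨i, hi⟩
  · exact coroot'_fundWeight_of_ne b ⟨i, hi⟩ ⟨j, hj⟩ (fun h' => h (congrArg Subtype.val h').symm)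

lemma pair_fw_coroot_self {b : P.Base} {i : ι} (hi : i ∈ b.support) :
    P.toLinearMap (fw b i) (P.coroot i) = 1 := by
  classical
  rw [pair_fw_coroot hi hi, if_pos rfl]

lemma pair_fw_coroot_ne {b : P.Base} {i j : ι} (hi : i ∈ b.support)
    (hj : j ∈ b.support) (h : i ≠ j) :
    P.toLinearMap (fw b i) (P.coroot j) = 0 := by
  classical
  rw [pair_fw_coroot hi hj, if_neg h]

lemma pair_root_fcw [DecidableEq ι] {b : P.Base} {i j : ι} (hi : i ∈ b.support)
    (hj : j ∈ b.support) :
    P.toLinearMap (P.root j) (fcw b i) = if i = j then 1 else 0 :=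
  pair_fw_coroot (P := P.flip) (b := b.flip) hi hj

lemma pair_root_fcw_self {b : P.Base} {i : ι} (hi : i ∈ b.support) :
    P.toLinearMap (P.root i) (fcw b i) = 1 :=
  pair_fw_coroot_self (P := P.flip) (b := b.flip) hi

lemma pair_root_fcw_ne {b : P.Base} {i j : ι} (hi : i ∈ b.support)
    (hj : j ∈ b.support) (h : i ≠ j) :
    P.toLinearMap (P.root j) (fcw b i) = 0 :=
  pair_fw_coroot_ne (P := P.flip) (b := b.flip) hi hj h

lemma ext_coroot (b : P.Base) {ξ η : M}
    (h : ∀ j ∈ b.support, P.toLinearMap ξ (P.coroot j) = P.toLinearMap η (P.coroot j)) :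
    ξ = η := by
  apply P.toLinearMap.toPerfPair.injective
  have hs : Submodule.span R (P.coroot '' (b.support : Set ι)) = ⊤ := by
    rw [b.span_coroot_support]; exact IsRootSystem.span_coroot_eq_top
  apply LinearMap.ext_on hs
  rintro _ ⟨j, hj, rfl⟩
  exact h j hj

lemma ext_root (b : P.Base) {x y : N}
    (h : ∀ j ∈ b.support, P.toLinearMap (P.root j) x = P.toLinearMap (P.root j) y) :
    x = y :=
  ext_coroot (P := P.flip) b.flip h

lemma eq_sum_fw (b : P.Base) (ξ : M) :
    ξ = ∑ j ∈ b.support, P.toLinearMap ξ (P.coroot j) • fw b j := by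
  classical
  apply ext_coroot b
  intro k hk
  rw [map_sum, LinearMap.sum_apply]
  rw [Finset.sum_eq_single k]
  · simp [pair_fw_coroot_self hk]
  · intro j hj hjk
    simp [pair_fw_coroot_ne hj hk hjk]
  · intro h; exact (h hk).elim

lemma eq_sum_fcw (b : P.Base) (x : N) :
    x = ∑ j ∈ b.support, P.toLinearMap (P.root j) x • fcw b j :=
  eq_sum_fw (P := P.flip) b.flip x

lemma ext_fw (b : P.Base) {x y : N}
    (h : ∀ j ∈ b.support, P.toLinearMap (fw b j) x = P.toLinearMap (fw b j) y) :
    x = y := by
  apply P.flip.toLinearMap.toPerfPair.injective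
  apply LinearMap.ext
  intro ξ
  change P.toLinearMap ξ x = P.toLinearMap ξ y
  rw [eq_sum_fw b ξ]
  simp only [map_sum, LinearMap.sum_apply, map_smul, LinearMap.smul_apply]
  exact Finset.sum_congr rfl fun j hj => by rw [h j hj]

lemma ext_fcw (b : P.Base) {ξ η : M}
    (h : ∀ j ∈ b.support, P.toLinearMap ξ (fcw b j) = P.toLinearMap η (fcw b j)) :
    ξ = η :=
  ext_fw (P := P.flip) b.flip h

lemma eq_sum_coroot (b : P.Base) (x : N) :
    x = ∑ j ∈ b.support, P.toLinearMap (fw b j) x • P.coroot j := by
  classical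
  apply ext_fw b
  intro k hk
  rw [map_sum]
  rw [Finset.sum_eq_single k]
  · simp [pair_fw_coroot_self hk]
  · intro j hj hjk
    simp [pair_fw_coroot_ne hk hj (Ne.symm hjk)]
  · intro h; exact (h hk).elim

lemma eq_sum_root (b : P.Base) (ξ : M) :
    ξ = ∑ j ∈ b.support, P.toLinearMap ξ (fcw b j) • P.root j :=
  eq_sum_coroot (P := P.flip) b.flip ξ

/-- The pairing is invariant under simultaneous reflection and coreflection. -/
lemma pair_reflection_coreflection (k : ι) (ξ : M) (x : N) :
    P.toLinearMap (P.reflection k ξ) (P.coreflection k x) = P.toLinearMap ξ x := by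
  rw [RootPairing.reflection_apply, RootPairing.coreflection_apply]
  simp only [map_sub, map_smul, LinearMap.sub_apply, LinearMap.smul_apply, smul_eq_mul,
    root_coroot_eq_pairing, pairing_same]
  simp only [root', coroot', LinearMap.flip_apply]
  ring

lemma pair_reflection (k : ι) (ξ : M) (x : N) :
    P.toLinearMap (P.reflection k ξ) x = P.toLinearMap ξ (P.coreflection k x) := by
  conv_lhs => rw [← P.coreflection_same k x]
  exact pair_reflection_coreflection k ξ _

lemma fw_reflect (b : P.Base) (k j : ι) :
    fw (reflect b k) (P.reflectionPerm k j) = P.reflection k (fw b j) := by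
  classical
  by_cases hj : j ∈ b.support
  · have hj' : P.reflectionPerm k j ∈ (reflect b k).support := by
      rw [mem_reflect_support, P.reflectionPerm_self]; exact hj
    apply ext_coroot (reflect b k)
    intro l hl
    have hl' := mem_reflect_support.mp hl
    have e : P.coroot l = P.coreflection k (P.coroot (P.reflectionPerm k l)) := by
      rw [← coroot_reflectionPerm, P.reflectionPerm_self]
    rw [pair_fw_coroot hj' hl]
    conv_rhs => rw [e, pair_reflection_coreflection, pair_fw_coroot hj hl']
    by_cases h : j = P.reflectionPerm k l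
    · rw [if_pos h, if_pos]; rw [h, P.reflectionPerm_self]
    · rw [if_neg h, if_neg]; intro h'; apply h; rw [← h', P.reflectionPerm_self]
  · have hj' : P.reflectionPerm k j ∉ (reflect b k).support := by
      rw [mem_reflect_support, P.reflectionPerm_self]; exact hj
    rw [fw_of_notMem hj, fw_of_notMem hj', map_zero]

lemma reflect_flip (b : P.Base) (k : ι) : (reflect b k).flip = reflect (P := P.flip) b.flip k :=
  base_ext rfl

lemma fcw_reflect (b : P.Base) (k j : ι) :
    fcw (reflect b k) (P.reflectionPerm k j) = P.coreflection k (fcw b j) := by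
  rw [fcw_eq_fw_flip, reflect_flip]
  exact fw_reflect (P := P.flip) b.flip k j

end Weights

end Groth.Agent.Lib.Helper6.RCh
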